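import Mathlib

/-!
A group with a "Borel subgroup" of type `G₂(5)`: the elements `y 1, …, y 6` and the torus `t1, t2`
(owner: helper58).
-/

set_option autoImplicit false

namespace Cfsg.Agent.LyOut

/-- eigenvalues of `t1` -/
def ea : ℕ → ℕ
  | 1 => 1
  | 2 => 3
  | 3 => 3
  | 4 => 4
  | 5 => 3
  | 6 => 3
  | _ => 0

/-- eigenvalues of `t2` -/
def eb : ℕ → ℕ
  | 1 => 2
  | 2 => 2
  | 3 => 1
  | 4 => 3
  | 5 => 3
  | 6 => 4
  | _ => 0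

/-- the eigenvalue of `t1 ^ p * t2 ^ q` -/
def em (p q j : ℕ) : ℕ := ea j ^ p * eb j ^ q

/-- the element of the torus which centralises `y r` -/
def pr : ℕ → ℕ
  | 1 => 1
  | 2 => 1
  | 3 => 0
  | 4 => 1
  | 5 => 1
  | 6 => 2
  | _ => 0

def qr : ℕ → ℕ
  | 1 => 0
  | 2 => 1
  | 3 => 1
  | 4 => 2
  | 5 => 3
  | 6 => 1
  | _ => 0

variable {G : Type*} [Group G]

/-- the subgroup generated by `y lo, …, y n` -/
def SS (y : ℕ → G) (lo n : ℕ) : Subgroup G := Subgroup.closure {x | ∃ j, lo ≤ j ∧ j ≤ n ∧ x = y j}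

theorem mem_SS {y : ℕ → G} {lo n j : ℕ} (h1 : lo ≤ j) (h2 : j ≤ n) : y j ∈ SS y lo n :=
  Subgroup.subset_closure ⟨j, h1, h2, rfl⟩

theorem SS_mono {y : ℕ → G} {lo lo' n n' : ℕ} (h1 : lo' ≤ lo) (h2 : n ≤ n') : SS y lo n ≤ SS y lo' n' := by
  apply Subgroup.closure_mono
  rintro x ⟨j, h3, h4, rfl⟩
  exact ⟨j, h1.trans h3, h4.trans h2, rfl⟩

theorem SS_bot {y : ℕ → G} {lo n : ℕ} (h : n < lo) : SS y lo n = ⊥ := by
  rw [eq_bot_iff]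
  unfold SS
  rw [Subgroup.closure_le]
  rintro x ⟨j, h3, h4, rfl⟩
  omega

/-- commutator words -/
def cw (a b : G) : G := a⁻¹ * b⁻¹ * a * b

/-- the relation -/
def RR (a b : G) : G := cw (cw (cw a b) b) b

structure Dat (y : ℕ → G) (t1 t2 : G) : Prop where
  ne : ∀ j, 1 ≤ j → j ≤ 6 → y j ≠ 1
  p5 : ∀ j, 1 ≤ j → j ≤ 6 → y j ^ 5 = 1
  e1 : ∀ j, 1 ≤ j → j ≤ 6 → t1⁻¹ * y j * t1 = y j ^ ea j
  e2 : ∀ j, 1 ≤ j → j ≤ 6 → t2⁻¹ * y j * t2 = y j ^ eb j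
  tc : t1 * t2 = t2 * t1
  f1 : t1 ^ 4 = 1
  f2 : t2 ^ 4 = 1
  cj : ∀ i j, 1 ≤ i → i < j → j ≤ 6 → (y i)⁻¹ * y j * y i ∈ SS y (i + 1) j
  gn : ∀ j, 1 ≤ j → j ≤ 6 → y j ∈ Subgroup.closure {y 1, y 6}
  rl : RR (y 1) (y 6) = 1
  nr : ∀ i j, 1 ≤ i → i ≤ 4 → 1 ≤ j → j ≤ 4 → RR (y 6 ^ j) (y 1 ^ i) ≠ 1

variable {y : ℕ → G} {t1 t2 : G}

theorem conj_pow' (u x : G) (k : ℕ) : u⁻¹ * x ^ k * u = (u⁻¹ * x * u) ^ k := by
  induction k with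
  | zero => simp
  | succ k ih => rw [pow_succ, pow_succ, ← ih]; group

theorem Dat.ep (h : Dat y t1 t2) {j : ℕ} (h1 : 1 ≤ j) (h2 : j ≤ 6) (p q : ℕ) :
    (t1 ^ p * t2 ^ q)⁻¹ * y j * (t1 ^ p * t2 ^ q) = y j ^ em p q j := by
  have ha : ∀ p, (t1 ^ p)⁻¹ * y j * t1 ^ p = y j ^ (ea j ^ p) := by
    intro p
    induction p with
    | zero => simp
    | succ p ih =>
      have : (t1 ^ (p + 1))⁻¹ * y j * t1 ^ (p + 1) = t1⁻¹ * ((t1 ^ p)⁻¹ * y j * t1 ^ p) * t1 := by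
        rw [pow_succ]; group
      rw [this, ih, conj_pow', h.e1 j h1 h2, ← pow_mul, pow_succ, mul_comm]
  have hb : ∀ q, (t2 ^ q)⁻¹ * y j * t2 ^ q = y j ^ (eb j ^ q) := by
    intro p
    induction p with
    | zero => simp
    | succ p ih =>
      have : (t2 ^ (p + 1))⁻¹ * y j * t2 ^ (p + 1) = t2⁻¹ * ((t2 ^ p)⁻¹ * y j * t2 ^ p) * t2 := by
        rw [pow_succ]; group
      rw [this, ih, conj_pow', h.e2 j h1 h2, ← pow_mul, pow_succ, mul_comm]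
  have : (t1 ^ p * t2 ^ q)⁻¹ * y j * (t1 ^ p * t2 ^ q) = (t2 ^ q)⁻¹ * ((t1 ^ p)⁻¹ * y j * t1 ^ p) * t2 ^ q := by group
  rw [this, ha, conj_pow', hb, ← pow_mul]
  unfold em
  rw [mul_comm]

theorem pow_mod5 {x : G} (h : x ^ 5 = 1) (k : ℕ) : x ^ k = x ^ (k % 5) := by
  conv_lhs => rw [← Nat.div_add_mod k 5, pow_add, pow_mul, h, one_pow, one_mul]

theorem Dat.comm_of_one (h : Dat y t1 t2) {j : ℕ} (h1 : 1 ≤ j) (h2 : j ≤ 6) {p q : ℕ} (he : em p q j % 5 = 1) :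
    y j * (t1 ^ p * t2 ^ q) = (t1 ^ p * t2 ^ q) * y j := by
  have h3 := h.ep h1 h2 p q
  rw [pow_mod5 (h.p5 j h1 h2), he, pow_one, mul_assoc, inv_mul_eq_iff_eq_mul] at h3
  exact h3

theorem Dat.norm (h : Dat y t1 t2) {i n : ℕ} (h1 : 1 ≤ i) (h2 : n ≤ 6) {s : G} (hs : s ∈ SS y (i + 1) n) :
    (y i)⁻¹ * s * y i ∈ SS y (i + 1) n := by
  have h3 : SS y (i + 1) n ≤ (SS y (i + 1) n).comap (MulAut.conj (y i)⁻¹).toMonoidHom := by
    conv_lhs => unfold SS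
    rw [Subgroup.closure_le]
    rintro x ⟨j, h3, h4, rfl⟩
    show MulAut.conj (y i)⁻¹ (y j) ∈ SS y (i + 1) n
    rw [MulAut.conj_apply, inv_inv]
    exact SS_mono le_rfl h4 (h.cj i j h1 (by omega) (by omega))
  have h4 := h3 hs
  change MulAut.conj (y i)⁻¹ s ∈ SS y (i + 1) n at h4
  rwa [MulAut.conj_apply, inv_inv] at h4

theorem Dat.normk (h : Dat y t1 t2) {i n : ℕ} (h1 : 1 ≤ i) (h2 : n ≤ 6) {s : G} (hs : s ∈ SS y (i + 1) n) (k : ℕ) :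
    (y i ^ k)⁻¹ * s * y i ^ k ∈ SS y (i + 1) n := by
  induction k with
  | zero => simpa using hs
  | succ k ih =>
    have h3 := h.norm h1 h2 ih
    have : (y i ^ (k + 1))⁻¹ * s * y i ^ (k + 1) = (y i)⁻¹ * ((y i ^ k)⁻¹ * s * y i ^ k) * y i := by
      rw [pow_succ]; group
    rwa [this]

theorem Dat.dec (h : Dat y t1 t2) {i n : ℕ} (h1 : 1 ≤ i) (h0 : i ≤ 6) (h2 : n ≤ 6) {s : G} (hs : s ∈ SS y i n) :
    ∃ e : ℕ, ∃ s' ∈ SS y (i + 1) n, s = y i ^ e * s' := by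
  unfold SS at hs
  induction hs using Subgroup.closure_induction with
  | mem x hx =>
    obtain ⟨j, h3, h4, rfl⟩ := hx
    rcases Nat.eq_or_lt_of_le h3 with rfl | h3
    · exact ⟨1, 1, Subgroup.one_mem _, by simp⟩
    · exact ⟨0, y j, mem_SS h3 h4, by simp⟩
  | one => exact ⟨0, 1, Subgroup.one_mem _, by simp⟩
  | mul a b _ _ ha hb =>
    obtain ⟨e, s', hs', rfl⟩ := ha
    obtain ⟨f, s'', hs'', rfl⟩ := hb
    refine ⟨e + f, ((y i ^ f)⁻¹ * s' * y i ^ f) * s'', Subgroup.mul_mem _ (h.normk h1 h2 hs' f) hs'', ?_⟩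
    rw [pow_add]; group
  | inv a _ ha =>
    obtain ⟨e, s', hs', rfl⟩ := ha
    have h5 : (y i ^ e)⁻¹ = y i ^ (4 * e) := by
      rw [inv_eq_iff_mul_eq_one, ← pow_add, show e + 4 * e = 5 * e by ring, pow_mul, h.p5 i h1 h0, one_pow]
    refine ⟨4 * e, ((y i ^ (4 * e))⁻¹ * s'⁻¹ * y i ^ (4 * e)), h.normk h1 h2 (Subgroup.inv_mem _ hs') _, ?_⟩
    rw [mul_inv_rev, h5]; group

theorem mem_of_pow5 {x : G} (h : x ^ 5 = 1) {K : Subgroup G} {k : ℤ} (hk : x ^ k ∈ K) (h5 : ¬ (5 : ℤ) ∣ k) : x ∈ K := by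
  have h1 : IsCoprime (5 : ℤ) k := (Int.prime_iff_natAbs_prime.2 (by norm_num)).coprime_iff_not_dvd.2 h5
  obtain ⟨a, b, hab⟩ := h1
  have h2 : x = (x ^ k) ^ b := by
    rw [← zpow_mul, mul_comm k b]
    have h3 : x ^ (a * 5 + b * k) = x := by rw [hab, zpow_one]
    rw [zpow_add, mul_comm a 5, zpow_mul] at h3
    have h4 : x ^ (5 : ℤ) = 1 := by exact_mod_cast h
    rw [h4, one_zpow, one_mul] at h3
    exact h3.symm
  rw [h2]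
  exact Subgroup.zpow_mem _ hk _

theorem tab_pq : ∀ r ∈ Finset.Icc 1 6, ∀ j ∈ Finset.Icc 1 6, (em (pr r) (qr r) j % 5 = 1 ↔ j = r) := by decide

theorem tab_pq' {r j : ℕ} (h1 : 1 ≤ r) (h2 : r ≤ 6) (h3 : 1 ≤ j) (h4 : j ≤ 6) :
    (em (pr r) (qr r) j % 5 = 1 ↔ j = r) := tab_pq r (by simp; omega) j (by simp; omega)

theorem Dat.uinv (h : Dat y t1 t2) {lo n : ℕ} (h1 : 1 ≤ lo) (h2 : n ≤ 6) (p q : ℕ) {s : G} (hs : s ∈ SS y lo n) :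
    (t1 ^ p * t2 ^ q)⁻¹ * s * (t1 ^ p * t2 ^ q) ∈ SS y lo n := by
  have h3 : SS y lo n ≤ (SS y lo n).comap (MulAut.conj (t1 ^ p * t2 ^ q)⁻¹).toMonoidHom := by
    conv_lhs => unfold SS
    rw [Subgroup.closure_le]
    rintro x ⟨j, h3, h4, rfl⟩
    show MulAut.conj (t1 ^ p * t2 ^ q)⁻¹ (y j) ∈ SS y lo n
    rw [MulAut.conj_apply, inv_inv, h.ep (by omega) (by omega)]
    exact Subgroup.pow_mem _ (mem_SS h3 h4) _
  have h4 := h3 hs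
  change MulAut.conj (t1 ^ p * t2 ^ q)⁻¹ s ∈ SS y lo n at h4
  rwa [MulAut.conj_apply, inv_inv] at h4

/-- peeling -/
theorem Dat.peel (h : Dat y t1 t2) {lo n : ℕ} (h1 : 1 ≤ lo) (h0 : lo ≤ 6) (h2 : n ≤ 6) (hn : y lo ∉ SS y (lo + 1) n)
    {p q : ℕ} (hm : em p q lo % 5 ≠ 1) {s : G} (hs : s ∈ SS y lo n)
    (hc : s * (t1 ^ p * t2 ^ q) = (t1 ^ p * t2 ^ q) * s) : s ∈ SS y (lo + 1) n := by
  obtain ⟨e, s', hs', rfl⟩ := h.dec h1 h0 h2 hs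
  set u := t1 ^ p * t2 ^ q with hu
  have h3 : u⁻¹ * (y lo ^ e * s') * u = y lo ^ e * s' := by
    rw [mul_assoc, hc, inv_mul_cancel_left]
  have h4 : u⁻¹ * (y lo ^ e * s') * u = y lo ^ (em p q lo * e) * (u⁻¹ * s' * u) := by
    have : u⁻¹ * (y lo ^ e * s') * u = (u⁻¹ * y lo ^ e * u) * (u⁻¹ * s' * u) := by group
    rw [this, conj_pow', h.ep h1 h0, ← pow_mul]
  have h5 : u⁻¹ * s' * u ∈ SS y (lo + 1) n := h.uinv (by omega) h2 p q hs'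
  rw [h3] at h4
  have h6 : y lo ^ ((em p q lo * e : ℤ) - e) ∈ SS y (lo + 1) n := by
    have h7 : y lo ^ ((em p q lo * e : ℤ) - e) = s' * (u⁻¹ * s' * u)⁻¹ := by
      have h8 : (y lo ^ e)⁻¹ * y lo ^ (em p q lo * e) = s' * (u⁻¹ * s' * u)⁻¹ := by
        rw [inv_mul_eq_iff_eq_mul, ← mul_assoc, h4, mul_inv_cancel_right]
      rw [← h8, sub_eq_neg_add, zpow_add, zpow_neg, zpow_natCast]
      norm_cast
    rw [h7]
    exact Subgroup.mul_mem _ hs' (Subgroup.inv_mem _ h5)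
  by_cases h9 : (5 : ℤ) ∣ ((em p q lo * e : ℤ) - e)
  · have h10 : (5 : ℤ) ∣ ((em p q lo : ℤ) - 1) * e := by
      have : ((em p q lo : ℤ) - 1) * e = (em p q lo * e : ℤ) - e := by ring
      rwa [this]
    have h11 : (5 : ℤ) ∣ e := by
      rcases (Int.prime_iff_natAbs_prime.2 (by norm_num) : Prime (5 : ℤ)).dvd_or_dvd h10 with h11 | h11
      · exfalso
        apply hm
        omega
      · exact h11
    have h12 : y lo ^ e = 1 := by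
      obtain ⟨k, hk⟩ := (by exact_mod_cast h11 : (5 : ℕ) ∣ e)
      rw [hk, pow_mul, h.p5 lo h1 h0, one_pow]
    rw [h12, one_mul]
    exact hs'
  · exact absurd (mem_of_pow5 (h.p5 lo h1 h0) h6 h9) hn

theorem Dat.notin_of (h : Dat y t1 t2) {lo n : ℕ} (h1 : 1 ≤ lo) (h0 : lo ≤ 6) (h2 : n ≤ 6)
    (ih : ∀ p q, (∀ j, lo + 1 ≤ j → j ≤ n → em p q j % 5 ≠ 1) → ∀ s ∈ SS y (lo + 1) n,
      s * (t1 ^ p * t2 ^ q) = (t1 ^ p * t2 ^ q) * s → s = 1) : y lo ∉ SS y (lo + 1) n := by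
  intro h3
  refine h.ne lo h1 h0 (ih (pr lo) (qr lo) ?_ _ h3 (h.comm_of_one h1 h0 ((tab_pq' h1 h0 h1 h0).2 rfl)))
  intro j h4 h5 h6
  have := (tab_pq' h1 h0 (show 1 ≤ j by omega) (show j ≤ 6 by omega)).1 h6
  omega

/-- elements without fixed points -/
theorem Dat.L (h : Dat y t1 t2) {n : ℕ} (h2 : n ≤ 6) (d : ℕ) : ∀ lo, 1 ≤ lo → n + 1 - lo ≤ d →
    ∀ p q, (∀ j, lo ≤ j → j ≤ n → em p q j % 5 ≠ 1) → ∀ s ∈ SS y lo n,
      s * (t1 ^ p * t2 ^ q) = (t1 ^ p * t2 ^ q) * s → s = 1 := by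
  induction d with
  | zero =>
    intro lo h1 h3 p q _ s hs _
    rw [SS_bot (show n < lo by omega)] at hs
    exact hs
  | succ d ih =>
    intro lo h1 h3 p q hm s hs hc
    by_cases h4 : n < lo
    · rw [SS_bot h4] at hs
      exact hs
    · have h5 := ih (lo + 1) (by omega) (by omega)
      have h6 := h.notin_of h1 (by omega) h2 h5
      exact h5 p q (fun j h7 h8 => hm j (by omega) h8) s
        (h.peel h1 (by omega) h2 h6 (hm lo le_rfl (by omega)) hs hc) hc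

theorem Dat.notin (h : Dat y t1 t2) {lo n : ℕ} (h1 : 1 ≤ lo) (h0 : lo ≤ 6) (h2 : n ≤ 6) : y lo ∉ SS y (lo + 1) n :=
  h.notin_of h1 h0 h2 (h.L h2 _ (lo + 1) (by omega) le_rfl)

theorem Dat.notin6 (h : Dat y t1 t2) : y 6 ∉ SS y 1 5 := by
  intro h3
  refine h.ne 6 (by norm_num) le_rfl (h.L (show 5 ≤ 6 by norm_num) _ 1 le_rfl le_rfl (pr 6) (qr 6) ?_ _ h3
    (h.comm_of_one (by norm_num) le_rfl ((tab_pq' (by norm_num) le_rfl (by norm_num) le_rfl).2 rfl)))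
  intro j h4 h5 h6
  have := (tab_pq' (show 1 ≤ 6 by norm_num) le_rfl (show 1 ≤ j by omega) (show j ≤ 6 by omega)).1 h6
  omega

/-- fixed points of the elements of order 4 -/
theorem Dat.C (h : Dat y t1 t2) {r : ℕ} (h1 : 1 ≤ r) (h0 : r ≤ 6) {p q : ℕ} (hr : em p q r % 5 = 1)
    (hm : ∀ j, 1 ≤ j → j ≤ 6 → j ≠ r → em p q j % 5 ≠ 1) {s : G} (hs : s ∈ SS y 1 6)
    (hc : s * (t1 ^ p * t2 ^ q) = (t1 ^ p * t2 ^ q) * s) : ∃ e : ℕ, s = y r ^ e := by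
  have h3 : ∀ d, d + 1 ≤ r → s ∈ SS y (d + 1) 6 := by
    intro d
    induction d with
    | zero => intro _; exact hs
    | succ d ih =>
      intro h4
      exact h.peel (by omega) (by omega) le_rfl (h.notin (by omega) (by omega) le_rfl)
        (hm (d + 1) (by omega) (by omega) (by omega)) (ih (by omega)) hc
  have h4 := h3 (r - 1) (by omega)
  rw [Nat.sub_add_cancel h1] at h4
  obtain ⟨e, s', hs', rfl⟩ := h.dec h1 h0 le_rfl h4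
  have h5 : s' * (t1 ^ p * t2 ^ q) = (t1 ^ p * t2 ^ q) * s' := by
    have h6 : Commute (y r) (t1 ^ p * t2 ^ q) := h.comm_of_one h1 h0 hr
    have h7 : Commute (y r ^ e * s') (t1 ^ p * t2 ^ q) := hc
    have h8 : Commute ((y r ^ e)⁻¹ * (y r ^ e * s')) (t1 ^ p * t2 ^ q) := (h6.pow_left e).inv_left.mul_left h7
    rwa [inv_mul_cancel_left] at h8
  have h6 := h.L le_rfl _ (r + 1) (by omega) le_rfl p q (fun j h7 h8 => hm j (by omega) h8 (by omega)) s' hs' h5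
  exact ⟨e, by rw [h6, mul_one]⟩

end Cfsg.Agent.LyOut
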