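import Cfsg.Agent.LyOut.Abs

/-!
Automorphisms that preserve `S` and `T` (owner: helper58).
-/

set_option autoImplicit false

namespace Cfsg.Agent.LyOut

variable {G : Type*} [Group G] {y : ℕ → G} {t1 t2 : G}

/-- the torus -/
def TT (t1 t2 : G) : Subgroup G := Subgroup.closure {t1, t2}

theorem Dat.memT (h : Dat y t1 t2) {v : G} (hv : v ∈ TT t1 t2) : ∃ p < 4, ∃ q < 4, v = t1 ^ p * t2 ^ q := by
  have hc : Commute t1 t2 := h.tc
  have key : ∀ p q : ℕ, t1 ^ p * t2 ^ q = t1 ^ (p % 4) * t2 ^ (q % 4) := by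
    intro p q
    conv_lhs => rw [← Nat.div_add_mod p 4, ← Nat.div_add_mod q 4, pow_add, pow_mul, h.f1, one_pow, one_mul, pow_add,
      pow_mul, h.f2, one_pow, one_mul]
  have h1 : ∃ p q : ℕ, v = t1 ^ p * t2 ^ q := by
    unfold TT at hv
    induction hv using Subgroup.closure_induction with
    | mem x hx =>
      rcases hx with rfl | hx
      · exact ⟨1, 0, by simp⟩
      · rw [Set.mem_singleton_iff] at hx
        subst hx
        exact ⟨0, 1, by simp⟩
    | one => exact ⟨0, 0, by simp⟩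
    | mul a b _ _ ha hb =>
      obtain ⟨p, q, rfl⟩ := ha
      obtain ⟨p', q', rfl⟩ := hb
      refine ⟨p + p', q + q', ?_⟩
      rw [pow_add, pow_add, mul_assoc, ← mul_assoc (t2 ^ q), ((hc.symm.pow_right p').pow_left q).eq]
      simp only [mul_assoc]
    | inv a _ ha =>
      obtain ⟨p, q, rfl⟩ := ha
      have i1 : (t1 ^ p)⁻¹ = t1 ^ (3 * p) := by
        rw [inv_eq_iff_mul_eq_one, ← pow_add, show p + 3 * p = 4 * p by ring, pow_mul, h.f1, one_pow]
      have i2 : (t2 ^ q)⁻¹ = t2 ^ (3 * q) := by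
        rw [inv_eq_iff_mul_eq_one, ← pow_add, show q + 3 * q = 4 * q by ring, pow_mul, h.f2, one_pow]
      refine ⟨3 * p, 3 * q, ?_⟩
      rw [mul_inv_rev, i1, i2]
      exact ((hc.pow_pow (3 * p) (3 * q)).eq).symm
  obtain ⟨p, q, rfl⟩ := h1
  exact ⟨p % 4, Nat.mod_lt _ (by norm_num), q % 4, Nat.mod_lt _ (by norm_num), key p q⟩

theorem t1_mem : t1 ∈ TT t1 t2 := Subgroup.subset_closure (Set.mem_insert _ _)

theorem t2_mem : t2 ∈ TT t1 t2 := Subgroup.subset_closure (Set.mem_insert_of_mem _ (Set.mem_singleton _))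

theorem tt_mem (p q : ℕ) : t1 ^ p * t2 ^ q ∈ TT t1 t2 :=
  Subgroup.mul_mem _ (Subgroup.pow_mem _ t1_mem _) (Subgroup.pow_mem _ t2_mem _)

theorem Dat.commT (h : Dat y t1 t2) {v w : G} (hv : v ∈ TT t1 t2) (hw : w ∈ TT t1 t2) : v * w = w * v := by
  have hc : Commute t1 t2 := h.tc
  obtain ⟨p, _, q, _, rfl⟩ := h.memT hv
  obtain ⟨p', _, q', _, rfl⟩ := h.memT hw
  have h1 : Commute (t1 ^ p * t2 ^ q) (t1 ^ p' * t2 ^ q') := by
    apply Commute.mul_left
    · exact ((Commute.refl t1).pow_pow p p').mul_right (hc.pow_pow p q')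
    · exact (hc.symm.pow_pow q p').mul_right ((Commute.refl t2).pow_pow q q')
  exact h1

theorem exp_lt {x : G} (h5 : x ^ 5 = 1) (e : ℕ) : ∃ k < 5, x ^ e = x ^ k := ⟨e % 5, Nat.mod_lt _ (by norm_num), pow_mod5 h5 e⟩

theorem pow_inj5 {x : G} (h5 : x ^ 5 = 1) (h1 : x ≠ 1) {a b : ℕ} (h : x ^ a = x ^ b) : a % 5 = b % 5 := by
  haveI : Fact (Nat.Prime 5) := ⟨by norm_num⟩
  have h2 : orderOf x = 5 := orderOf_eq_prime h5 h1
  have := pow_inj_mod.1 h
  rwa [h2] at this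

theorem tab_ord : ∀ p < 4, ∀ q < 4, (p % 2 = 1 ∨ q % 2 = 1) → ∃ r ∈ Finset.Icc 1 6, em p q r % 5 = 1 ∧
    ∀ j ∈ Finset.Icc 1 6, j ≠ r → em p q j % 5 ≠ 1 := by decide

theorem tab_conj : ∀ i ∈ Finset.Icc 1 4, ∀ j ∈ Finset.Icc 1 4, ∃ p < 4, ∃ q < 4, em p q 1 % 5 = i ∧ em p q 6 % 5 = j := by
  decide

theorem tab_one : ∀ p < 4, ∀ q < 4, em p q 1 % 5 = 1 → em p q 6 % 5 = 1 → p = 0 ∧ q = 0 := by decide

/-- an element of the torus of order 4 fixes only one root subgroup -/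
theorem Dat.C4 (h : Dat y t1 t2) {u : G} (hu : u ∈ TT t1 t2) (h2 : u ^ 2 ≠ 1) {s : G} (hs : s ∈ SS y 1 6)
    (hc : s * u = u * s) : ∃ r, 1 ≤ r ∧ r ≤ 6 ∧ ∃ e : ℕ, s = y r ^ e := by
  obtain ⟨p, hp, q, hq, rfl⟩ := h.memT hu
  have h3 : p % 2 = 1 ∨ q % 2 = 1 := by
    by_contra h4
    push Not at h4
    apply h2
    have hc : Commute t1 t2 := h.tc
    rw [(hc.pow_pow p q).mul_pow, ← pow_mul, ← pow_mul]
    obtain ⟨a, ha⟩ : 4 ∣ p * 2 := by omega
    obtain ⟨b, hb⟩ : 4 ∣ q * 2 := by omega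
    rw [ha, hb, pow_mul, pow_mul, h.f1, h.f2, one_pow, one_pow, one_mul]
  obtain ⟨r, hr, h4, h5⟩ := tab_ord p hp q hq h3
  rw [Finset.mem_Icc] at hr
  refine ⟨r, hr.1, hr.2, h.C hr.1 hr.2 h4 (fun j h6 h7 h8 => h5 j (Finset.mem_Icc.2 ⟨h6, h7⟩) h8) hs hc⟩

theorem Dat.sq1 (h : Dat y t1 t2) : t1 ^ 2 ≠ 1 := by
  intro h1
  have h2 := h.ep (j := 2) (by norm_num) (by norm_num) 2 0
  rw [h1, pow_zero, one_mul, inv_one, one_mul, mul_one] at h2
  have h3 := pow_inj5 (h.p5 2 (by norm_num) (by norm_num)) (h.ne 2 (by norm_num) (by norm_num)) (a := 1)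
    (b := em 2 0 2) (by rw [pow_one]; exact h2)
  revert h3
  decide

theorem Dat.sq6 (h : Dat y t1 t2) : (t1 ^ 2 * t2 ^ 1) ^ 2 ≠ 1 := by
  intro h1
  have hc : Commute t1 t2 := h.tc
  have h2 : t1 ^ 0 * t2 ^ 2 = 1 := by
    rw [(hc.pow_pow 2 1).mul_pow, ← pow_mul, ← pow_mul, h.f1, one_mul] at h1
    simpa using h1
  have h3 := h.ep (j := 1) (by norm_num) (by norm_num) 0 2
  rw [h2, inv_one, one_mul, mul_one] at h3
  have h3 := pow_inj5 (h.p5 1 (by norm_num) (by norm_num)) (h.ne 1 (by norm_num) (by norm_num)) (a := 1)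
    (b := em 0 2 1) (by rw [pow_one]; exact h3)
  revert h3
  decide

theorem Dat.SS_eq (h : Dat y t1 t2) : SS y 1 6 = Subgroup.closure {y 1, y 6} := by
  apply le_antisymm
  · unfold SS
    rw [Subgroup.closure_le]
    rintro x ⟨j, h1, h2, rfl⟩
    exact h.gn j h1 h2
  · rw [Subgroup.closure_le]
    rintro x (rfl | hx)
    · exact mem_SS le_rfl (by norm_num)
    · rw [Set.mem_singleton_iff] at hx
      subst hx
      exact mem_SS (by norm_num) le_rfl

theorem map_RR {H : Type*} [Group H] (f : G →* H) (a b : G) : f (RR a b) = RR (f a) (f b) := by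
  simp [RR, cw]

/-- Automorphisms that preserve `S` and `T`. -/
theorem Dat.A (h : Dat y t1 t2) (β : G ≃* G) (hS : (SS y 1 6).map β.toMonoidHom = SS y 1 6)
    (hT : ∀ v ∈ TT t1 t2, β v ∈ TT t1 t2) :
    ∃ t ∈ TT t1 t2, (∀ s ∈ SS y 1 6, β s = t⁻¹ * s * t) ∧ ∀ v ∈ TT t1 t2, β v = v := by
  have y1S : y 1 ∈ SS y 1 6 := mem_SS le_rfl (by norm_num)
  have y6S : y 6 ∈ SS y 1 6 := mem_SS (by norm_num) le_rfl
  have hin : ∀ s ∈ SS y 1 6, β s ∈ SS y 1 6 := by
    intro s hs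
    rw [← hS]
    exact ⟨s, hs, rfl⟩
  -- the images of `y 1` and `y 6`
  have a1 : ∃ r, 1 ≤ r ∧ r ≤ 6 ∧ ∃ e : ℕ, β (y 1) = y r ^ e := by
    refine h.C4 (hT _ t1_mem) ?_ (hin _ y1S) ?_
    · rw [← map_pow]
      intro h1
      exact h.sq1 (β.injective (by rw [h1, map_one]))
    · rw [← map_mul, ← map_mul]
      congr 1
      have := h.comm_of_one (j := 1) (p := 1) (q := 0) (by norm_num) (by norm_num) (by decide)
      simpa using this
  have a6 : ∃ r, 1 ≤ r ∧ r ≤ 6 ∧ ∃ e : ℕ, β (y 6) = y r ^ e := by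
    refine h.C4 (hT _ (tt_mem 2 1)) ?_ (hin _ y6S) ?_
    · rw [← map_pow]
      intro h1
      exact h.sq6 (β.injective (by rw [h1, map_one]))
    · rw [← map_mul, ← map_mul]
      congr 1
      exact h.comm_of_one (j := 6) (p := 2) (q := 1) (by norm_num) (by norm_num) (by decide)
  obtain ⟨r, hr1, hr2, e, he⟩ := a1
  obtain ⟨r', hr1', hr2', e', he'⟩ := a6
  have hgen : SS y 1 6 ≤ Subgroup.closure {y r, y r'} := by
    rw [← hS, h.SS_eq, MonoidHom.map_closure, Subgroup.closure_le]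
    rintro x ⟨z, hz, rfl⟩
    rcases hz with rfl | hz
    · show β (y 1) ∈ Subgroup.closure {y r, y r'}
      rw [he]
      exact Subgroup.pow_mem _ (Subgroup.subset_closure (Set.mem_insert _ _)) _
    · rw [Set.mem_singleton_iff] at hz
      subst hz
      show β (y 6) ∈ Subgroup.closure {y r, y r'}
      rw [he']
      exact Subgroup.pow_mem _ (Subgroup.subset_closure (Set.mem_insert_of_mem _ (Set.mem_singleton _))) _
  have c1 : r = 1 ∨ r' = 1 := by
    by_contra hc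
    push Not at hc
    have hle : Subgroup.closure {y r, y r'} ≤ SS y (1 + 1) 6 := by
      rw [Subgroup.closure_le]
      rintro x (rfl | hx)
      · exact mem_SS (by omega) hr2
      · rw [Set.mem_singleton_iff] at hx
        subst hx
        exact mem_SS (by omega) hr2'
    exact h.notin (lo := 1) (n := 6) le_rfl (by norm_num) le_rfl (hle (hgen y1S))
  have c6 : r = 6 ∨ r' = 6 := by
    by_contra hc
    push Not at hc
    have hle : Subgroup.closure {y r, y r'} ≤ SS y 1 5 := by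
      rw [Subgroup.closure_le]
      rintro x (rfl | hx)
      · exact mem_SS hr1 (by omega)
      · rw [Set.mem_singleton_iff] at hx
        subst hx
        exact mem_SS hr1' (by omega)
    exact h.notin6 (hle (hgen y6S))
  obtain ⟨k, hk, hk'⟩ := exp_lt (h.p5 r hr1 hr2) e
  obtain ⟨l, hl, hl'⟩ := exp_lt (h.p5 r' hr1' hr2') e'
  rw [hk'] at he
  rw [hl'] at he'
  have k0 : k ≠ 0 := by
    rintro rfl
    rw [pow_zero] at he
    exact h.ne 1 le_rfl (by norm_num) (β.injective (by rw [he, map_one]))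
  have l0 : l ≠ 0 := by
    rintro rfl
    rw [pow_zero] at he'
    exact h.ne 6 (by norm_num) le_rfl (β.injective (by rw [he', map_one]))
  have hrr : r = 1 ∧ r' = 6 := by
    by_contra hc
    have h1 : r = 6 ∧ r' = 1 := by omega
    obtain ⟨rfl, rfl⟩ := h1
    refine h.nr l k (by omega) (by omega) (by omega) (by omega) ?_
    rw [← he, ← he']
    have := map_RR β.toMonoidHom (y 1) (y 6)
    rw [h.rl, map_one] at this
    exact this.symm
  obtain ⟨rfl, rfl⟩ := hrr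
  obtain ⟨p, hp, q, hq, hp1, hp6⟩ := tab_conj k (Finset.mem_Icc.2 ⟨by omega, by omega⟩) l (Finset.mem_Icc.2 ⟨by omega, by omega⟩)
  have hb : ∀ s ∈ SS y 1 6, β s = (t1 ^ p * t2 ^ q)⁻¹ * s * (t1 ^ p * t2 ^ q) := by
    intro s hs
    have h1 : Set.EqOn β.toMonoidHom (MulAut.conj (t1 ^ p * t2 ^ q)⁻¹).toMonoidHom {y 1, y 6} := by
      rintro x (rfl | hx)
      · show β (y 1) = MulAut.conj _ _
        rw [MulAut.conj_apply, inv_inv, h.ep le_rfl (by norm_num), pow_mod5 (h.p5 1 le_rfl (by norm_num)), hp1, he]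
      · rw [Set.mem_singleton_iff] at hx
        subst hx
        show β (y 6) = MulAut.conj _ _
        rw [MulAut.conj_apply, inv_inv, h.ep (by norm_num) le_rfl, pow_mod5 (h.p5 6 (by norm_num) le_rfl), hp6, he']
    have h2 := MonoidHom.eqOn_closure h1
    rw [← h.SS_eq] at h2
    have h3 := h2 hs
    change β s = MulAut.conj _ s at h3
    rwa [MulAut.conj_apply, inv_inv] at h3
  refine ⟨t1 ^ p * t2 ^ q, tt_mem p q, hb, ?_⟩
  intro v hv
  set t := t1 ^ p * t2 ^ q with ht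
  have htT : t ∈ TT t1 t2 := tt_mem p q
  have hw := hT v hv
  have hvS : ∀ s ∈ SS y 1 6, v⁻¹ * s * v ∈ SS y 1 6 := by
    intro s hs
    obtain ⟨p', _, q', _, rfl⟩ := h.memT hv
    exact h.uinv le_rfl le_rfl p' q' hs
  have hxs : ∀ s ∈ SS y 1 6, s * (β v * v⁻¹) = (β v * v⁻¹) * s := by
    intro s hs
    have h1 := hb _ (hvS s hs)
    have h2 : β (v⁻¹ * s * v) = (β v)⁻¹ * (t⁻¹ * s * t) * β v := by
      rw [map_mul, map_mul, map_inv, hb s hs]
    rw [h2] at h1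
    have e1 : t * β v = β v * t := h.commT htT hw
    have e2 : t * v = v * t := h.commT htT hv
    have h3 : (β v * t)⁻¹ * s * (β v * t) = (v * t)⁻¹ * s * (v * t) := by
      calc (β v * t)⁻¹ * s * (β v * t) = (t * β v)⁻¹ * s * (t * β v) := by rw [e1]
        _ = (β v)⁻¹ * (t⁻¹ * s * t) * β v := by group
        _ = t⁻¹ * (v⁻¹ * s * v) * t := h1
        _ = (v * t)⁻¹ * s * (v * t) := by group
    have h4 : (β v)⁻¹ * s * β v = v⁻¹ * s * v := by
      have h5 : (β v)⁻¹ * s * β v = t * ((β v * t)⁻¹ * s * (β v * t)) * t⁻¹ := by group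
      rw [h5, h3]
      group
    calc s * (β v * v⁻¹) = β v * ((β v)⁻¹ * s * β v) * v⁻¹ := by group
      _ = β v * (v⁻¹ * s * v) * v⁻¹ := by rw [h4]
      _ = (β v * v⁻¹) * s := by group
  have hxT : β v * v⁻¹ ∈ TT t1 t2 := Subgroup.mul_mem _ hw (Subgroup.inv_mem _ hv)
  obtain ⟨p', hp', q', hq', hx⟩ := h.memT hxT
  rw [hx] at hxs
  have hone : ∀ j, 1 ≤ j → j ≤ 6 → em p' q' j % 5 = 1 := by
    intro j hj1 hj2
    have h1 := h.ep hj1 hj2 p' q'
    have h2 := hxs (y j) (mem_SS hj1 hj2)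
    have h3 : y j ^ 1 = y j ^ em p' q' j := by
      rw [← h1, pow_one, mul_assoc, h2, inv_mul_cancel_left]
    exact (pow_inj5 (h.p5 j hj1 hj2) (h.ne j hj1 hj2) h3).symm
  obtain ⟨hp0, hq0⟩ := tab_one p' hp' q' hq' (hone 1 le_rfl (by norm_num)) (hone 6 (by norm_num) le_rfl)
  rw [hp0, hq0, pow_zero, pow_zero, one_mul, mul_inv_eq_one] at hx
  exact hx

end Cfsg.Agent.LyOut
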