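import Cfsg.Agent.LyOut.Abs2

/-!
Every automorphism is inner (owner: helper58).
-/

set_option autoImplicit false

namespace Cfsg.Agent.LyOut

open Pointwise

variable {G : Type*} [Group G] {y : ℕ → G} {t1 t2 : G}

theorem Dat.card_step [Finite G] (h : Dat y t1 t2) {lo n : ℕ} (h1 : 1 ≤ lo) (h0 : lo ≤ n) (h2n : n ≤ 6) :
    Nat.card (SS y lo n) = 5 * Nat.card (SS y (lo + 1) n) := by
  let f : Fin 5 × SS y (lo + 1) n → SS y lo n := fun p =>
    ⟨y lo ^ (p.1 : ℕ) * p.2, Subgroup.mul_mem _ (Subgroup.pow_mem _ (mem_SS le_rfl h0) _)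
      (SS_mono (Nat.le_succ lo) le_rfl p.2.2)⟩
  have hf : Function.Bijective f := by
    constructor
    · rintro ⟨a, s⟩ ⟨b, s'⟩ hab
      have h2 : y lo ^ (a : ℕ) * (s : G) = y lo ^ (b : ℕ) * (s' : G) := congrArg Subtype.val hab
      have h3 : y lo ^ ((a : ℤ) - (b : ℤ)) ∈ SS y (lo + 1) n := by
        have h4 : y lo ^ ((a : ℤ) - (b : ℤ)) = s' * (s : G)⁻¹ := by
          rw [sub_eq_neg_add, zpow_add, zpow_neg, zpow_natCast, zpow_natCast, inv_mul_eq_iff_eq_mul, ← mul_assoc, ← h2,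
            mul_inv_cancel_right]
        rw [h4]
        exact Subgroup.mul_mem _ s'.2 (Subgroup.inv_mem _ s.2)
      have h5 : (5 : ℤ) ∣ ((a : ℤ) - (b : ℤ)) := by
        by_contra h6
        exact h.notin h1 (by omega) h2n (mem_of_pow5 (h.p5 lo h1 (by omega)) h3 h6)
      have h7 : a = b := by
        apply Fin.ext
        have ha := a.2
        have hb := b.2
        omega
      subst h7
      have h8 : s = s' := Subtype.ext (mul_left_cancel h2)
      rw [h8]
    · rintro ⟨x, hx⟩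
      obtain ⟨e, s', hs', rfl⟩ := h.dec h1 (by omega) h2n hx
      refine ⟨(⟨e % 5, Nat.mod_lt _ (by norm_num)⟩, ⟨s', hs'⟩), ?_⟩
      apply Subtype.ext
      show y lo ^ (e % 5) * s' = y lo ^ e * s'
      rw [← pow_mod5 (h.p5 lo h1 (by omega))]
  rw [← Nat.card_eq_of_bijective f hf, Nat.card_prod, Nat.card_eq_fintype_card, Fintype.card_fin]

theorem Dat.card_S [Finite G] (h : Dat y t1 t2) : Nat.card (SS y 1 6) = 5 ^ 6 := by
  rw [h.card_step (lo := 1) (by norm_num) (by norm_num) le_rfl, h.card_step (lo := 2) (by norm_num) (by norm_num) le_rfl,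
    h.card_step (lo := 3) (by norm_num) (by norm_num) le_rfl, h.card_step (lo := 4) (by norm_num) (by norm_num) le_rfl,
    h.card_step (lo := 5) (by norm_num) (by norm_num) le_rfl, h.card_step (lo := 6) (by norm_num) (by norm_num) le_rfl,
    SS_bot (show 6 < 6 + 1 by norm_num), Subgroup.card_bot]
  norm_num

theorem Dat.card_45 [Finite G] (h : Dat y t1 t2) : Nat.card (SS y 4 5) = 25 := by
  rw [h.card_step (lo := 4) (by norm_num) (by norm_num) (by norm_num),
    h.card_step (lo := 5) (by norm_num) (by norm_num) (by norm_num), SS_bot (show 5 < 5 + 1 by norm_num), Subgroup.card_bot]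

theorem SS_map {H : Type*} [Group H] (f : G →* H) (lo n : ℕ) : (SS y lo n).map f = SS (fun j => f (y j)) lo n := by
  unfold SS
  rw [MonoidHom.map_closure]
  congr 1
  ext x
  constructor
  · rintro ⟨_, ⟨j, h1, h2, rfl⟩, rfl⟩
    exact ⟨j, h1, h2, rfl⟩
  · rintro ⟨j, h1, h2, rfl⟩
    exact ⟨_, ⟨j, h1, h2, rfl⟩, rfl⟩

theorem TT_map {H : Type*} [Group H] (f : G →* H) : (TT t1 t2).map f = TT (f t1) (f t2) := by
  unfold TT
  rw [MonoidHom.map_closure, Set.image_pair]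

/-- the data in a larger group -/
theorem Dat.map {H : Type*} [Group H] (h : Dat y t1 t2) {f : G →* H} (hf : Function.Injective f) :
    Dat (fun j => f (y j)) (f t1) (f t2) where
  ne j h1 h2 h3 := h.ne j h1 h2 (hf (by rw [h3, map_one]))
  p5 j h1 h2 := by rw [← map_pow, h.p5 j h1 h2, map_one]
  e1 j h1 h2 := by rw [← map_inv, ← map_mul, ← map_mul, h.e1 j h1 h2, map_pow]
  e2 j h1 h2 := by rw [← map_inv, ← map_mul, ← map_mul, h.e2 j h1 h2, map_pow]
  tc := by rw [← map_mul, ← map_mul, h.tc]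
  f1 := by rw [← map_pow, h.f1, map_one]
  f2 := by rw [← map_pow, h.f2, map_one]
  cj i j h1 h2 h3 := by
    have h4 := h.cj i j h1 h2 h3
    rw [← SS_map, ← map_inv, ← map_mul, ← map_mul]
    exact ⟨_, h4, rfl⟩
  gn j h1 h2 := by
    have h4 := h.gn j h1 h2
    have h5 : (Subgroup.closure {y 1, y 6}).map f = Subgroup.closure {f (y 1), f (y 6)} := by
      rw [MonoidHom.map_closure, Set.image_pair]
    rw [← h5]
    exact ⟨_, h4, rfl⟩
  rl := by rw [← map_RR, h.rl, map_one]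
  nr i j h1 h2 h3 h4 h5 := by
    rw [← map_pow, ← map_pow, ← map_RR] at h5
    exact h.nr i j h1 h2 h3 h4 (hf (by rw [h5, map_one]))

theorem Dat.T_pgroup (h : Dat y t1 t2) : IsPGroup 2 (TT t1 t2) := by
  rintro ⟨v, hv⟩
  refine ⟨2, ?_⟩
  apply Subtype.ext
  show v ^ (2 ^ 2) = 1
  obtain ⟨p, _, q, _, rfl⟩ := h.memT hv
  have hc : Commute t1 t2 := h.tc
  rw [(hc.pow_pow p q).mul_pow, ← pow_mul, ← pow_mul, show p * 2 ^ 2 = 4 * p by ring, show q * 2 ^ 2 = 4 * q by ring,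
    pow_mul, pow_mul, h.f1, h.f2, one_pow, one_pow, one_mul]

/-- the elements that commute with `D₁` (or `D₂`) -/
def Cen (y : ℕ → G) (t1 t2 : G) (a b : ℕ) : Prop :=
  ∀ c : G, (∀ j, a ≤ j → j ≤ b → c * y j = y j * c) → c * t1 = t1 * c → c * t2 = t2 * c → c = 1

theorem Dat.norm_S_T (h : Dat y t1 t2) : TT t1 t2 ≤ Subgroup.normalizer (SS y 1 6 : Set G) := by
  intro v hv
  rw [Subgroup.mem_normalizer_iff'']
  intro s
  constructor
  · intro hs
    obtain ⟨p, _, q, _, rfl⟩ := h.memT hv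
    exact h.uinv le_rfl le_rfl p q hs
  · intro hs
    obtain ⟨p, _, q, _, h2⟩ := h.memT (Subgroup.inv_mem _ hv)
    have h3 := h.uinv le_rfl le_rfl p q hs
    rw [← h2] at h3
    have : v⁻¹⁻¹ * (v⁻¹ * s * v) * v⁻¹ = s := by group
    rwa [this] at h3

/-- `T` is self-normalising in `N(S)` -/
theorem Dat.self_norm (h : Dat y t1 t2) (C1 : Cen y t1 t2 2 6) {x : G}
    (hx : x ∈ Subgroup.normalizer (SS y 1 6 : Set G)) (hT : ∀ v ∈ TT t1 t2, x * v * x⁻¹ ∈ TT t1 t2) : x ∈ TT t1 t2 := by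
  have hS : (SS y 1 6).map (MulAut.conj x).toMonoidHom = SS y 1 6 := by
    rw [Subgroup.mem_normalizer_iff] at hx
    ext s
    constructor
    · rintro ⟨s', hs', rfl⟩
      exact (hx s').1 hs'
    · intro hs
      refine ⟨x⁻¹ * s * x, ?_, ?_⟩
      · show x⁻¹ * s * x ∈ SS y 1 6
        rw [hx]
        have : x * (x⁻¹ * s * x) * x⁻¹ = s := by group
        rwa [this]
      · show MulAut.conj x (x⁻¹ * s * x) = s
        rw [MulAut.conj_apply]; group
  obtain ⟨t, ht, h1, h2⟩ := h.A (MulAut.conj x) hS hT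
  have hc : t * x = 1 := by
    have key : ∀ s : G, MulAut.conj x s = t⁻¹ * s * t → t * x * s = s * (t * x) := by
      intro s hs
      rw [MulAut.conj_apply] at hs
      have h3 : x * s = t⁻¹ * s * t * x := by rw [← hs]; group
      rw [mul_assoc, h3]; group
    have key2 : ∀ v ∈ TT t1 t2, t * x * v = v * (t * x) := by
      intro v hv
      apply key
      rw [h2 v hv, mul_assoc, h.commT hv ht, inv_mul_cancel_left]
    apply C1
    · intro j hj1 hj2
      exact key _ (h1 _ (mem_SS (by omega) hj2))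
    · exact key2 _ t1_mem
    · exact key2 _ t2_mem
  have h3 : x = t⁻¹ := (inv_eq_of_mul_eq_one_right hc).symm
  rw [h3]
  exact Subgroup.inv_mem _ ht

theorem map_eq_of_smul {β : MulAut G} {S : Subgroup G} (h : β • S = S) : S.map (β : G ≃* G).toMonoidHom = S := by
  conv_rhs => rw [← h]
  ext x
  rw [Subgroup.mem_smul_pointwise_iff_exists, Subgroup.mem_map]
  rfl

/-- **Every automorphism is inner.** -/
theorem Dat.inner [Finite G] (h : Dat y t1 t2) (h5 : (Nat.card G).factorization 5 = 6)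
    (C1 : Cen y t1 t2 2 6) (C2 : Cen y t1 t2 1 5) {w1 w2 z : G}
    (hw1 : ∀ j, 2 ≤ j → j ≤ 6 → w1⁻¹ * y j * w1 ∈ SS y 1 6)
    (hw1' : w1⁻¹ * t1 * w1 ∈ TT t1 t2) (hw1'' : w1⁻¹ * t2 * w1 ∈ TT t1 t2)
    (hw2 : ∀ j, 1 ≤ j → j ≤ 5 → w2⁻¹ * y j * w2 ∈ SS y 1 6)
    (hw2' : w2⁻¹ * t1 * w2 ∈ TT t1 t2) (hw2'' : w2⁻¹ * t2 * w2 ∈ TT t1 t2)
    (hz : ∀ j, 2 ≤ j → j ≤ 6 → z⁻¹ * y j * z ∈ SS y 1 6 ⊔ TT t1 t2 ⊔ Subgroup.closure {w1, w2})
    (hz' : z⁻¹ * t1 * z ∈ SS y 1 6 ⊔ TT t1 t2 ⊔ Subgroup.closure {w1, w2})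
    (hz'' : z⁻¹ * t2 * z ∈ SS y 1 6 ⊔ TT t1 t2 ⊔ Subgroup.closure {w1, w2})
    (htop : SS y 1 6 ⊔ TT t1 t2 ⊔ Subgroup.closure {w1, w2} ⊔ Subgroup.zpowers z = ⊤)
    (α : MulAut G) : ∃ g : G, α = MulAut.conj g := by
  haveI f5 : Fact (Nat.Prime 5) := ⟨by norm_num⟩
  haveI f2 : Fact (Nat.Prime 2) := ⟨by norm_num⟩
  set S := SS y 1 6 with hSdef
  set T := TT t1 t2 with hTdef
  -- step 1
  let P : Sylow 5 G := Sylow.ofCard S (by rw [h5]; exact h.card_S)
  have hP : (P : Subgroup G) = S := rfl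
  obtain ⟨g, hg⟩ := MulAction.exists_smul_eq G (α • P) P
  have hβ : (MulAut.conj g * α) • S = S := by
    have h1 : (MulAut.conj g * α) • P = P := by
      rw [mul_smul, ← Sylow.smul_def]
      exact hg
    have h2 := congrArg (fun Q : Sylow 5 G => (Q : Subgroup G)) h1
    simp only [Sylow.pointwise_smul_def] at h2
    exact h2
  set β : MulAut G := MulAut.conj g * α with hβdef
  have hβS : S.map (β : G ≃* G).toMonoidHom = S := map_eq_of_smul hβ
  -- step 2
  set N : Subgroup G := Subgroup.normalizer (S : Set G) with hN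
  have hTN : T ≤ N := h.norm_S_T
  have hβT : T.map (β : G ≃* G).toMonoidHom ≤ N := by
    rintro _ ⟨v, hv, rfl⟩
    have hv' := hTN hv
    rw [hN, Subgroup.mem_normalizer_iff] at hv' ⊢
    intro s
    constructor
    · intro hs
      rw [← hβS] at hs
      obtain ⟨s', hs', rfl⟩ := hs
      have h1 := (hv' s').1 hs'
      rw [← hβS]
      refine ⟨_, h1, ?_⟩
      simp
    · intro hs
      rw [← hβS] at hs
      obtain ⟨s', hs', h2⟩ := hs
      have h3 : s = β (v⁻¹ * s' * v) := by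
        have h4 : β s' = β v * s * (β v)⁻¹ := h2
        rw [map_mul, map_mul, map_inv, h4]; group
      have h1 : v⁻¹ * s' * v ∈ S := by
        rw [hv']
        have : v * (v⁻¹ * s' * v) * v⁻¹ = s' := by group
        rwa [this]
      rw [h3, ← hβS]
      exact ⟨_, h1, rfl⟩
  obtain ⟨n, hn⟩ := IsPGroup.iff_card.1 h.T_pgroup
  have hcT : Nat.card (T.subgroupOf N) = 2 ^ n := by
    rw [← hn]
    exact Nat.card_congr (Subgroup.subgroupOfEquivOfLe hTN).toEquiv
  have hcT' : Nat.card ((T.map (β : G ≃* G).toMonoidHom).subgroupOf N) = 2 ^ n := by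
    rw [← hn, Nat.card_congr (Subgroup.subgroupOfEquivOfLe hβT).toEquiv]
    exact (Nat.card_congr (T.equivMapOfInjective (β : G ≃* G).toMonoidHom β.injective).toEquiv).symm
  have hndvd : ¬ 2 ^ (n + 1) ∣ Nat.card N := by
    intro hd
    have h1 := Sylow.prime_dvd_card_quotient_normalizer hd hcT
    have h2 : Subgroup.comap (Subgroup.normalizer ((T.subgroupOf N : Subgroup N) : Set N)).subtype (T.subgroupOf N) = ⊤ := by
      rw [eq_top_iff]
      rintro ⟨x, hx⟩ _
      show (x : G) ∈ T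
      rw [Subgroup.mem_normalizer_iff] at hx
      apply h.self_norm C1 x.2
      intro v hv
      exact (hx ⟨v, hTN hv⟩).1 hv
    rw [h2] at h1
    have h3 : Nat.card (↥(Subgroup.normalizer ((T.subgroupOf N : Subgroup N) : Set N)) ⧸
        (⊤ : Subgroup ↥(Subgroup.normalizer ((T.subgroupOf N : Subgroup N) : Set N)))) = 1 := by
      rw [← Subgroup.index]
      exact Subgroup.index_top
    rw [h3] at h1
    norm_num at h1
  have hfac : (Nat.card N).factorization 2 = n := by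
    have h0 : Nat.card N ≠ 0 := Nat.card_pos.ne'
    have h1 : 2 ^ n ∣ Nat.card N := by
      rw [← hcT]
      exact Subgroup.card_subgroup_dvd_card _
    have h2 : n ≤ (Nat.card N).factorization 2 := (f2.out.pow_dvd_iff_le_factorization h0).1 h1
    have h3 : ¬ n + 1 ≤ (Nat.card N).factorization 2 := fun h4 => hndvd ((f2.out.pow_dvd_iff_le_factorization h0).2 h4)
    omega
  let PT : Sylow 2 N := Sylow.ofCard (T.subgroupOf N) (by rw [hfac]; exact hcT)
  let PT' : Sylow 2 N := Sylow.ofCard ((T.map (β : G ≃* G).toMonoidHom).subgroupOf N) (by rw [hfac]; exact hcT')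
  obtain ⟨m, hm⟩ := MulAction.exists_smul_eq N PT' PT
  have hmT : ∀ v ∈ T, (m : G) * β v * (m : G)⁻¹ ∈ T := by
    intro v hv
    have h1 : (⟨β v, hβT ⟨v, hv, rfl⟩⟩ : N) ∈ (PT' : Subgroup N) := ⟨v, hv, rfl⟩
    have h2 : m * (⟨β v, hβT ⟨v, hv, rfl⟩⟩ : N) * m⁻¹ ∈ ((m • PT' : Sylow 2 N) : Subgroup N) := by
      rw [Sylow.smul_def, Sylow.pointwise_smul_def, Subgroup.mem_smul_pointwise_iff_exists]
      exact ⟨_, h1, rfl⟩
    rw [hm] at h2
    exact h2
  set γ : MulAut G := MulAut.conj (m : G) * β with hγ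
  have hγa : ∀ x, γ x = (m : G) * β x * (m : G)⁻¹ := fun x => rfl
  have hγS : S.map (γ : G ≃* G).toMonoidHom = S := by
    have hm2 : (m : G) ∈ Subgroup.normalizer (S : Set G) := m.2
    rw [Subgroup.mem_normalizer_iff] at hm2
    ext s
    constructor
    · rintro ⟨s', hs', rfl⟩
      show γ s' ∈ S
      rw [hγa]
      refine (hm2 _).1 ?_
      rw [← hβS]
      exact ⟨s', hs', rfl⟩
    · intro hs
      have h1 : (m : G)⁻¹ * s * m ∈ S := by
        rw [hm2]
        have : (m : G) * ((m : G)⁻¹ * s * m) * (m : G)⁻¹ = s := by group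
        rwa [this]
      rw [← hβS] at h1
      obtain ⟨s', hs', h2⟩ := h1
      refine ⟨s', hs', ?_⟩
      show γ s' = s
      have h3 : β s' = (m : G)⁻¹ * s * m := h2
      rw [hγa, h3]; group
  -- step 3
  obtain ⟨t, ht, hA1, hA2⟩ := h.A γ hγS (fun v hv => by
    show γ v ∈ T
    rw [hγa]
    exact hmT v hv)
  set δ : MulAut G := MulAut.conj t * γ with hδ
  have hδa : ∀ x, δ x = t * γ x * t⁻¹ := fun x => rfl
  have hδS : ∀ s ∈ S, δ s = s := by
    intro s hs
    have h1 : γ s = t⁻¹ * s * t := hA1 s hs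
    rw [hδa, h1]; group
  have hδT : ∀ v ∈ T, δ v = v := by
    intro v hv
    have h1 : γ v = v := hA2 v hv
    rw [hδa, h1, h.commT ht hv, mul_inv_cancel_right]
  -- step 4
  let F : Subgroup G := (δ : G ≃* G).toMonoidHom.eqLocus (MonoidHom.id G)
  have memF : ∀ x, x ∈ F ↔ δ x = x := fun x => Iff.rfl
  have hSF : S ≤ F := hδS
  have hTF : T ≤ F := hδT
  have step : ∀ w : G, ∀ d : G, δ d = d → w⁻¹ * d * w ∈ F → (δ w * w⁻¹) * d = d * (δ w * w⁻¹) := by
    intro w d hd hw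
    have h1 : δ (w⁻¹ * d * w) = w⁻¹ * d * w := hw
    rw [map_mul, map_mul, map_inv, hd] at h1
    have h2 : d * δ w = δ w * (w⁻¹ * d * w) := by rw [← h1]; group
    calc (δ w * w⁻¹) * d = δ w * (w⁻¹ * d * w) * w⁻¹ := by group
      _ = d * δ w * w⁻¹ := by rw [← h2]
      _ = d * (δ w * w⁻¹) := by group
  have fix1 : ∀ w, (∀ j, 2 ≤ j → j ≤ 6 → w⁻¹ * y j * w ∈ F) → w⁻¹ * t1 * w ∈ F → w⁻¹ * t2 * w ∈ F → w ∈ F := by
    intro w h1 h2 h3
    have h4 : δ w * w⁻¹ = 1 := by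
      apply C1
      · intro j hj1 hj2
        exact step w _ (hδS _ (mem_SS (by omega) hj2)) (h1 j hj1 hj2)
      · exact step w _ (hδT _ t1_mem) h2
      · exact step w _ (hδT _ t2_mem) h3
    rw [mul_inv_eq_one] at h4
    exact h4
  have fix2 : ∀ w, (∀ j, 1 ≤ j → j ≤ 5 → w⁻¹ * y j * w ∈ F) → w⁻¹ * t1 * w ∈ F → w⁻¹ * t2 * w ∈ F → w ∈ F := by
    intro w h1 h2 h3
    have h4 : δ w * w⁻¹ = 1 := by
      apply C2
      · intro j hj1 hj2
        exact step w _ (hδS _ (mem_SS hj1 (by omega))) (h1 j hj1 hj2)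
      · exact step w _ (hδT _ t1_mem) h2
      · exact step w _ (hδT _ t2_mem) h3
    rw [mul_inv_eq_one] at h4
    exact h4
  have w1F : w1 ∈ F := fix1 w1 (fun j a b => hSF (hw1 j a b)) (hTF hw1') (hTF hw1'')
  have w2F : w2 ∈ F := fix2 w2 (fun j a b => hSF (hw2 j a b)) (hTF hw2') (hTF hw2'')
  have hMF : S ⊔ T ⊔ Subgroup.closure {w1, w2} ≤ F := by
    refine sup_le (sup_le hSF hTF) ?_
    rw [Subgroup.closure_le]
    rintro x (rfl | hx)
    · exact w1F
    · rw [Set.mem_singleton_iff] at hx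
      subst hx
      exact w2F
  have zF : z ∈ F := fix1 z (fun j a b => hMF (hz j a b)) (hMF hz') (hMF hz'')
  have hF : F = ⊤ := by
    rw [eq_top_iff, ← htop]
    refine sup_le hMF ?_
    rw [Subgroup.zpowers_le]
    exact zF
  have hδ1 : δ = 1 := by
    ext x
    have : x ∈ F := by rw [hF]; trivial
    exact this
  refine ⟨g⁻¹ * (m : G)⁻¹ * t⁻¹, ?_⟩
  have h9 : MulAut.conj t * (MulAut.conj (m : G) * (MulAut.conj g * α)) = 1 := hδ1
  rw [map_mul, map_mul, map_inv, map_inv, map_inv]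
  rw [mul_eq_one_iff_inv_eq] at h9
  have h10 : α = (MulAut.conj g)⁻¹ * ((MulAut.conj (m : G))⁻¹ * (MulAut.conj (m : G) * (MulAut.conj g * α))) := by group
  rw [h10, ← h9]
  group

end Cfsg.Agent.LyOut
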