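import Cfsg.Agent.LyOut.Data
import Cfsg.Agent.LyOut.Abs3
import Cfsg.Agent.CosetEnum.Ly.Dce

/-! Kernel checks of words of `G₂(5)` (owner: helper58). -/

set_option autoImplicit false
set_option maxRecDepth 1000000

namespace Cfsg.Agent.LyOut

open MulAction Cfsg.Agent.CosetEnum Cfsg.Agent.LyG

/-- inverse words -/
def iH (u : List ℕ) : List ℕ := invW ivH u

theorem ev_iH (u : List ℕ) : ev qa (iH u) = (ev qa u)⁻¹ := prod_invW UA.good.inv u

/-- words in the words -/
def WW (L : List ℕ) : List ℕ := L.flatMap gw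

/-- the elements -/
noncomputable def q (j : ℕ) : QA := ev qa (gw j)

theorem ev_WW (L : List ℕ) : ev qa (WW L) = (L.map q).prod := by
  induction L with
  | nil => rfl
  | cons a L ih =>
    have : WW (a :: L) = gw a ++ WW L := rfl
    rw [this, ev_app, ih, List.map_cons, List.prod_cons]
    rfl

theorem eqQ {u v : List ℕ} (h : eqB u v = true) : ev qa u = ev qa v := eqA h

theorem act_word {A : MulAction QA (Fin LYT.P.m)} (hA : @Acts QA _ LYT.P A qa LYT.lets) {u : List ℕ} (hu : wOK 13 u = true)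
    (i : Fin LYT.P.m) : (((ev qa u)⁻¹ • i : Fin LYT.P.m) : ℕ) = actW LYT.P u i := by
  have hl : ∀ x ∈ u, x ∈ LYT.lets := by
    intro x hx
    simp only [wOK, List.all_eq_true] at hu
    exact TH.mem_iff.2 (hu x hx)
  rw [← hA.word hl i, val_inv]
  rfl

/-- moved points -/
theorem ne_of {u : List ℕ} {i : ℕ} (hi : i < 19530) (h : (wOK 13 u && !Nat.beq (actW LYT.P u i) i) = true) : ev qa u ≠ 1 := by
  obtain ⟨A, hA, _⟩ := TH.exists_action UA
  rw [Bool.and_eq_true] at h
  intro h1
  have h2 := act_word hA h.1 ⟨i, hi⟩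
  rw [h1, inv_one, one_smul] at h2
  have h3 := h.2
  rw [← h2] at h3
  simp at h3

theorem all_of {a n : ℕ} {P : ℕ → Bool} (h : (List.range' a n).all P = true) {j : ℕ} (h1 : a ≤ j) (h2 : j < a + n) :
    P j = true := List.all_eq_true.1 h j (List.mem_range'_1.2 ⟨h1, h2⟩)

theorem ckNe : (List.range' 1 6).all (fun j => wOK 13 (gw j) && !Nat.beq (actW LYT.P (gw j) 3) 3) = true := by decide +kernel

theorem ck5 : (List.range' 1 6).all (fun j => eqB (WW [j, j, j, j, j]) []) = true := by decide +kernel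

theorem ckE1 : (List.range' 1 6).all (fun j => eqB (iH (gw 7) ++ gw j ++ gw 7) (WW (List.replicate (ea j) j))) = true := by
  decide +kernel

theorem ckE2 : (List.range' 1 6).all (fun j => eqB (iH (gw 8) ++ gw j ++ gw 8) (WW (List.replicate (eb j) j))) = true := by
  decide +kernel

theorem ckT : (eqB (WW [7, 8]) (WW [8, 7]) && eqB (WW [7, 7, 7, 7]) [] && eqB (WW [8, 8, 8, 8]) []) = true := by decide +kernel

theorem ckC : (List.range' 1 6).all (fun i => (List.range' 1 6).all fun j => !(decide (i < j)) ||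
    (eqB (iH (gw i) ++ gw j ++ gw i) (WW (cjT i j)) && (cjT i j).all fun k => decide (i + 1 ≤ k) && decide (k ≤ j))) = true := by
  decide +kernel

theorem ckG : (List.range' 1 6).all (fun j => eqB (gw j) (WW (gnT j)) && (gnT j).all fun k => decide (k = 1) || decide (k = 6)) = true := by
  decide +kernel

/-- commutator words -/
def cwW (a b : List ℕ) : List ℕ := iH a ++ iH b ++ a ++ b

def RRW (a b : List ℕ) : List ℕ := cwW (cwW (cwW a b) b) b

theorem ev_cwW (a b : List ℕ) : ev qa (cwW a b) = cw (ev qa a) (ev qa b) := by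
  unfold cwW cw
  rw [ev_app, ev_app, ev_app, ev_iH, ev_iH]

theorem ev_RRW (a b : List ℕ) : ev qa (RRW a b) = RR (ev qa a) (ev qa b) := by
  unfold RRW RR
  rw [ev_cwW, ev_cwW, ev_cwW]

theorem ckR : eqB (RRW (gw 1) (gw 6)) [] = true := by decide +kernel

theorem ckN : (List.range' 1 4).all (fun i => (List.range' 1 4).all fun j =>
    wOK 13 (RRW (WW (List.replicate j 6)) (WW (List.replicate i 1))) &&
      !Nat.beq (actW LYT.P (RRW (WW (List.replicate j 6)) (WW (List.replicate i 1))) 3) 3) = true := by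
  decide +kernel

theorem prod_rep (k j : ℕ) : ((List.replicate k j).map q).prod = q j ^ k := by
  rw [List.map_replicate, List.prod_replicate]

theorem mem_SS_prod {lo n : ℕ} {L : List ℕ} (h : ∀ k ∈ L, lo ≤ k ∧ k ≤ n) : (L.map q).prod ∈ SS q lo n := by
  apply list_prod_mem
  intro x hx
  obtain ⟨k, hk, rfl⟩ := List.mem_map.1 hx
  exact mem_SS (h k hk).1 (h k hk).2

/-- the data for `G₂(5)` -/
theorem datQ : Dat q (q 7) (q 8) where
  ne j h1 h2 := ne_of (by norm_num) (all_of ckNe h1 (by omega))
  p5 j h1 h2 := by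
    have h := eqQ (all_of ck5 h1 (by omega))
    rw [ev_WW] at h
    have h3 := prod_rep 5 j
    rw [show List.replicate 5 j = [j, j, j, j, j] from rfl, h] at h3
    rw [← h3]
    rfl
  e1 j h1 h2 := by
    have h := eqQ (all_of ckE1 h1 (by omega))
    rw [ev_WW, ev_app, ev_app, ev_iH, prod_rep] at h
    exact h
  e2 j h1 h2 := by
    have h := eqQ (all_of ckE2 h1 (by omega))
    rw [ev_WW, ev_app, ev_app, ev_iH, prod_rep] at h
    exact h
  tc := by
    have h := ckT
    simp only [Bool.and_eq_true] at h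
    have h1 := eqQ h.1.1
    rw [ev_WW, ev_WW] at h1
    simpa using h1
  f1 := by
    have h := ckT
    simp only [Bool.and_eq_true] at h
    have h1 := eqQ h.1.2
    rw [ev_WW] at h1
    have h3 := prod_rep 4 7
    rw [show List.replicate 4 7 = [7, 7, 7, 7] from rfl, h1] at h3
    rw [← h3]
    rfl
  f2 := by
    have h := ckT
    simp only [Bool.and_eq_true] at h
    have h1 := eqQ h.2
    rw [ev_WW] at h1
    have h3 := prod_rep 4 8
    rw [show List.replicate 4 8 = [8, 8, 8, 8] from rfl, h1] at h3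
    rw [← h3]
    rfl
  cj i j h1 h2 h3 := by
    have h := all_of (all_of ckC h1 (show i < 1 + 6 by omega)) (show 1 ≤ j by omega) (show j < 1 + 6 by omega)
    rw [decide_eq_true h2, Bool.not_true, Bool.false_or, Bool.and_eq_true] at h
    have h4 := eqQ h.1
    rw [ev_WW, ev_app, ev_app, ev_iH] at h4
    show (ev qa (gw i))⁻¹ * ev qa (gw j) * ev qa (gw i) ∈ SS q (i + 1) j
    rw [h4]
    apply mem_SS_prod
    intro k hk
    have h5 := List.all_eq_true.1 h.2 k hk
    simpa using h5
  gn j h1 h2 := by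
    have h := all_of ckG h1 (show j < 1 + 6 by omega)
    rw [Bool.and_eq_true] at h
    have h4 := eqQ h.1
    rw [ev_WW] at h4
    show ev qa (gw j) ∈ _
    rw [h4]
    apply list_prod_mem
    intro x hx
    obtain ⟨k, hk, rfl⟩ := List.mem_map.1 hx
    have h5 := List.all_eq_true.1 h.2 k hk
    have h6 : k = 1 ∨ k = 6 := by simpa using h5
    rcases h6 with rfl | rfl
    · exact Subgroup.subset_closure (Set.mem_insert _ _)
    · exact Subgroup.subset_closure (Set.mem_insert_of_mem _ (Set.mem_singleton _))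
  rl := by
    have h := eqQ ckR
    rw [ev_RRW] at h
    exact h
  nr i j h1 h2 h3 h4 := by
    have h := all_of (all_of ckN h1 (show i < 1 + 4 by omega)) h3 (show j < 1 + 4 by omega)
    have h5 := ne_of (i := 3) (by norm_num) h
    rw [ev_RRW, ev_WW, ev_WW, prod_rep, prod_rep] at h5
    exact h5

end Cfsg.Agent.LyOut
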