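import Cfsg.Agent.CosetEnum.Ly.Base

/-! Words of `G₂(5)` for the automorphisms of the Lyons group (generated, owner: helper58). -/

set_option autoImplicit false
set_option maxRecDepth 1000000

namespace Cfsg.Agent.LyOut

/-- the words: `y 1, …, y 6`, `t1`, `t2`, `w1`, `w2` -/
def gw : ℕ → List ℕ
  | 1 => [9]
  | 2 => [9, 4, 7, 3, 10, 4, 8, 3]
  | 3 => [4, 7, 3]
  | 4 => [4, 7, 3, 9, 7, 10, 10, 8, 9]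
  | 5 => [7]
  | 6 => [10, 2, 7, 1, 9, 8, 8]
  | 7 => [1, 1]
  | 8 => [3, 1, 5]
  | 9 => [9, 1, 10]
  | 10 => [1, 3, 7, 3, 8, 5, 3, 13, 7]
  | _ => []

/-- conjugates of `y j` under `y i` -/
def cjT : ℕ → ℕ → List ℕ
  | 1, 2 => [2]
  | 1, 3 => [2, 2, 2, 2, 3]
  | 1, 4 => [4]
  | 1, 5 => [2, 3, 3, 3, 4, 4, 5]
  | 1, 6 => [2, 3, 3, 4, 5, 5, 5, 6]
  | 2, 3 => [3]
  | 2, 4 => [4]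
  | 2, 5 => [5]
  | 2, 6 => [4, 4, 4, 4, 6]
  | 3, 4 => [4]
  | 3, 5 => [4, 4, 4, 5]
  | 3, 6 => [6]
  | 4, 5 => [5]
  | 4, 6 => [6]
  | 5, 6 => [6]
  | _, _ => []

/-- `y j` in terms of `y 1`, `y 6` -/
def gnT : ℕ → List ℕ
  | 1 => [1]
  | 2 => [6, 1, 6, 6, 6, 1, 6, 6, 6, 6, 1, 1, 6, 1, 6]
  | 3 => [1, 1, 1, 6, 1, 1, 6, 1, 1, 6, 1, 1, 1, 6, 6]
  | 4 => [1, 1, 1, 1, 6, 1, 1, 1, 6, 1, 1, 1, 1, 6, 1, 1, 6, 1, 1, 6]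
  | 5 => [1, 1, 1, 1, 6, 1, 1, 6, 6, 6, 1, 6, 6, 1, 1, 6, 6, 6, 1, 6]
  | 6 => [6]
  | _ => []

/-- conjugates under `w1`, `w2` -/
def wT : ℕ → ℕ → List ℕ
  | 9, 2 => [6]
  | 9, 3 => [5, 5, 5]
  | 9, 4 => [4, 4]
  | 9, 5 => [3]
  | 9, 6 => [2, 2, 2]
  | 9, 7 => [7]
  | 9, 8 => [7, 8, 8, 8]
  | 10, 1 => [5, 5, 5, 5]
  | 10, 2 => [4, 4]
  | 10, 3 => [3]
  | 10, 4 => [2, 2]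
  | 10, 5 => [1]
  | 10, 7 => [7, 8, 8, 8]
  | 10, 8 => [8, 8, 8]
  | _, _ => []

/-- conjugates under the letters of `K8` -/
def kT : ℕ → ℕ → List ℕ
  | 1, 2 => [2, 3, 3, 4, 5, 5, 5, 6]
  | 1, 3 => [2, 2, 2, 2, 3, 4, 4, 5, 6]
  | 1, 4 => [4, 4]
  | 1, 5 => [2, 3, 4, 4, 4, 5, 5, 5, 5, 6]
  | 1, 6 => [2, 3, 3, 3, 4, 4, 4, 4, 5, 5, 5, 6, 6, 6, 6]
  | 2, 2 => [2, 2, 3, 3, 3, 3, 4, 4, 4, 4, 5, 6, 6]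
  | 2, 3 => [2, 2, 2, 3, 3, 4, 4, 4, 5, 5, 6, 6]
  | 2, 4 => [4, 4, 4]
  | 2, 5 => [2, 2, 3, 3, 4, 4, 5, 5, 5, 6, 6]
  | 2, 6 => [2, 2, 3, 4, 5, 6, 6, 6]
  | 3, 2 => [6]
  | 3, 3 => [5, 5, 5]
  | 3, 4 => [4, 4]
  | 3, 5 => [3]
  | 3, 6 => [2, 2, 2]
  | 4, 2 => [6, 6]
  | 4, 3 => [5]
  | 4, 4 => [4, 4, 4]
  | 4, 5 => [3, 3]
  | 4, 6 => [2]
  | 5, 2 => [2, 2, 2, 2, 3, 3, 4, 4, 4, 4, 5, 5, 6]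
  | 5, 3 => [2, 2, 2, 2, 3, 3, 3, 3, 4, 4, 4, 5, 6, 6, 6, 6]
  | 5, 4 => [4, 4]
  | 5, 5 => [2, 2, 2, 2, 3, 4, 4, 5, 6]
  | 5, 6 => [2, 3, 3, 4, 5, 5, 5, 6]
  | 6, 2 => [2, 2, 2, 3, 3, 3, 3, 4, 5, 5, 5, 5, 6, 6]
  | 6, 3 => [2, 2, 2, 3, 3, 3, 4, 4, 5, 5, 6, 6, 6]
  | 6, 4 => [4, 4, 4]
  | 6, 5 => [2, 2, 2, 3, 3, 4, 4, 4, 5, 5, 6, 6]
  | 6, 6 => [2, 2, 3, 3, 3, 3, 4, 4, 4, 4, 5, 6, 6]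
  | 7, 2 => [2]
  | 7, 3 => [3, 4, 4]
  | 7, 4 => [4]
  | 7, 5 => [5]
  | 7, 6 => [6]
  | 8, 2 => [2]
  | 8, 3 => [3, 4, 4, 4]
  | 8, 4 => [4]
  | 8, 5 => [5]
  | 8, 6 => [6]
  | _, _ => []

def hb : List ℕ := [2, 8, 13]

def bpL : List (ℕ × ℕ × List ℕ) := [(0, 20, [5, 7, 5]), (1, 20, [5, 5]), (3, 552, [2, 4, 5, 7, 7]), (4, 110, [3, 5, 5, 3])]

def t2p : List ℕ := [1, 1, 2, 2, 4, 1, 11, 11, 1, 5, 2, 2, 2]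

def L6 : List ℕ := [0, 3, 20, 108, 110, 552]

def L22 : List ℕ := [0, 3, 16, 17, 20, 22, 23, 29, 31, 32, 38, 42, 43, 49, 50, 54, 55, 108, 110, 259, 260, 552]

def L18 : List ℕ := [0, 3, 20, 108, 110, 511, 512, 552, 607, 608, 3025, 3026, 3040, 3041, 4070, 8743, 14673, 16953]

/-- the letters -/
def ltT : ℕ → List ℕ
  | 1 => [1, 1, 1, 1, 9, 1]
  | 7 => [5]
  | 9 => [1]
  | 11 => [7, 7, 8, 8, 8, 10, 9, 10, 9, 10]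
  | _ => []

end Cfsg.Agent.LyOut
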