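import Cfsg.Agent.LyOut.Chk

/-! Fixed points in the action of degree 19530 (owner: helper58). -/

set_option autoImplicit false
set_option maxRecDepth 1000000

namespace Cfsg.Agent.LyOut

open MulAction Cfsg.Agent.CosetEnum Cfsg.Agent.LyG

local notation "sel(" c ", " a ", " b ")" => @Bool.rec (fun _ => Bool) b a c

/-- common fixed points of `t1` and `t2` -/
noncomputable def fT (i : ℕ) : Bool :=
  sel(Nat.beq (actW LYT.P (gw 7) i) i, sel(Nat.beq (actW LYT.P (gw 8) i) i, L6.contains i, true), true)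

/-- fixed points of `t2'` -/
noncomputable def fP (i : ℕ) : Bool := sel(Nat.beq (actW LYT.P t2p i) i, L18.contains i, true)

theorem a0 : allR fT 0 2000 = true := by decide +kernel
theorem a1 : allR fT 2000 2000 = true := by decide +kernel
theorem a2 : allR fT 4000 2000 = true := by decide +kernel
theorem a3 : allR fT 6000 2000 = true := by decide +kernel
theorem a4 : allR fT 8000 2000 = true := by decide +kernel
theorem a5 : allR fT 10000 2000 = true := by decide +kernel
theorem a6 : allR fT 12000 2000 = true := by decide +kernel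
theorem a7 : allR fT 14000 2000 = true := by decide +kernel
theorem a8 : allR fT 16000 2000 = true := by decide +kernel
theorem a9 : allR fT 18000 1530 = true := by decide +kernel

theorem covT : Cov fT 0 19530 :=
  (((((((((Cov.of a0 rfl).trans (Cov.of a1 rfl)).trans (Cov.of a2 rfl)).trans (Cov.of a3 rfl)).trans (Cov.of a4 rfl)).trans
    (Cov.of a5 rfl)).trans (Cov.of a6 rfl)).trans (Cov.of a7 rfl)).trans (Cov.of a8 rfl)).trans (Cov.of a9 rfl)

theorem b0 : allR fP 0 2000 = true := by decide +kernel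
theorem b1 : allR fP 2000 2000 = true := by decide +kernel
theorem b2 : allR fP 4000 2000 = true := by decide +kernel
theorem b3 : allR fP 6000 2000 = true := by decide +kernel
theorem b4 : allR fP 8000 2000 = true := by decide +kernel
theorem b5 : allR fP 10000 2000 = true := by decide +kernel
theorem b6 : allR fP 12000 2000 = true := by decide +kernel
theorem b7 : allR fP 14000 2000 = true := by decide +kernel
theorem b8 : allR fP 16000 2000 = true := by decide +kernel
theorem b9 : allR fP 18000 1530 = true := by decide +kernel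

theorem covP : Cov fP 0 19530 :=
  (((((((((Cov.of b0 rfl).trans (Cov.of b1 rfl)).trans (Cov.of b2 rfl)).trans (Cov.of b3 rfl)).trans (Cov.of b4 rfl)).trans
    (Cov.of b5 rfl)).trans (Cov.of b6 rfl)).trans (Cov.of b7 rfl)).trans (Cov.of b8 rfl)).trans (Cov.of b9 rfl)

theorem ck22 : L22.all (fun i => Nat.beq (actW LYT.P (gw 8) i) i && decide (i < 19530)) = true := by decide +kernel

/-- the roots that fix a point -/
noncomputable def pat (a n : ℕ) (f : ℕ) : List Bool := (List.range' a n).map fun j => Nat.beq (actW LYT.P (gw j) f) f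

theorem ckP1 : L6.all (fun f => L6.all fun f' => !(decide (pat 2 5 f = pat 2 5 f')) || Nat.beq f f') = true := by
  decide +kernel

theorem ckP2 : L6.all (fun f => !(decide (pat 1 5 f = pat 1 5 0)) || Nat.beq f 0) = true := by
  decide +kernel

theorem ckP3 : L6.all (fun f => !((List.range' 2 5).all fun j => Nat.beq (actW LYT.P (gw j) f) f) || Nat.beq f 0) = true := by
  decide +kernel

theorem ckP4 : L6.all (fun f => !((List.range' 1 5).all fun j => Nat.beq (actW LYT.P (gw j) f) f)) = true := by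
  decide +kernel

theorem ckB : bpL.all (fun p => Nat.beq (actW LYT.P hb p.1) (actW LYT.P (WW p.2.2) p.2.1) && L6.contains p.2.1 &&
    wOK 13 (WW p.2.2) && p.2.2.all (fun k => decide (2 ≤ k) && decide (k ≤ 8)) && decide (p.1 < 19530)) = true := by
  decide +kernel

theorem ckB' : bpL.map Prod.fst = [0, 1, 3, 4] := by decide

theorem gwOK : (List.range' 1 10).all (fun j => wOK 13 (gw j)) = true := by decide +kernel

theorem gwOK' {j : ℕ} (h1 : 1 ≤ j) (h2 : j ≤ 10) : wOK 13 (gw j) = true := all_of gwOK h1 (by omega)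

theorem L6lt {f : ℕ} (h : f ∈ L6) : f < 19530 := by
  have h1 : L6.all (fun f => decide (f < 19530)) = true := by decide +kernel
  simpa using List.all_eq_true.1 h1 f h

section

variable {A : MulAction QA (Fin LYT.P.m)} (hA : @Acts QA _ LYT.P A qa LYT.lets)

include hA

theorem q_act {j : ℕ} (h1 : 1 ≤ j) (h2 : j ≤ 10) (i : Fin LYT.P.m) : (((q j)⁻¹ • i : Fin LYT.P.m) : ℕ) = actW LYT.P (gw j) i :=
  act_word hA (gwOK' h1 h2) i

theorem q_fix {j : ℕ} (h1 : 1 ≤ j) (h2 : j ≤ 10) (i : Fin LYT.P.m) : q j • i = i ↔ Nat.beq (actW LYT.P (gw j) i) i = true := by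
  rw [← q_act hA h1 h2, Nat.beq_eq, Fin.val_inj, inv_smul_eq_iff]
  exact eq_comm

theorem fixT {i : Fin LYT.P.m} (h7 : q 7 • i = i) (h8 : q 8 • i = i) : (i : ℕ) ∈ L6 := by
  rw [q_fix hA (by norm_num) (by norm_num)] at h7 h8
  have h := covT i (Nat.zero_le _) i.2
  unfold fT at h
  rw [h7, h8] at h
  simpa using h

/-- `C(D₁) = 1` in `G₂(5)` -/
theorem cenQ1 : Cen q (q 7) (q 8) 2 6 := by
  intro c hy h7 h8
  have hcom : ∀ k, 2 ≤ k → k ≤ 8 → c * q k = q k * c := by
    intro k h1 h2
    rcases Nat.lt_or_ge k 7 with h3 | h3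
    · exact hy k h1 (by omega)
    · rcases Nat.lt_or_ge k 8 with h4 | h4
      · have : k = 7 := by omega
        subst this; exact h7
      · have : k = 8 := by omega
        subst this; exact h8
  have hmv : ∀ {k : ℕ}, 2 ≤ k → k ≤ 8 → ∀ i : Fin LYT.P.m, q k • (c • i) = c • (q k • i) := by
    intro k h1 h2 i
    rw [← mul_smul, ← mul_smul, hcom k h1 h2]
  have hfix : ∀ f : Fin LYT.P.m, (f : ℕ) ∈ L6 → c • f = f := by
    intro f hf
    have e7 : q 7 • f = f := by
      rw [q_fix hA (by norm_num) (by norm_num)]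
      have h1 : L6.all (fun f => Nat.beq (actW LYT.P (gw 7) f) f) = true := by decide +kernel
      exact List.all_eq_true.1 h1 _ hf
    have e8 : q 8 • f = f := by
      rw [q_fix hA (by norm_num) (by norm_num)]
      have h1 : L6.all (fun f => Nat.beq (actW LYT.P (gw 8) f) f) = true := by decide +kernel
      exact List.all_eq_true.1 h1 _ hf
    have hf' : ((c • f : Fin LYT.P.m) : ℕ) ∈ L6 := by
      apply fixT hA
      · rw [hmv (by norm_num) (by norm_num), e7]
      · rw [hmv (by norm_num) (by norm_num), e8]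
    have hp : pat 2 5 f = pat 2 5 ((c • f : Fin LYT.P.m) : ℕ) := by
      unfold pat
      apply List.map_congr_left
      intro j hj
      rw [List.mem_range'_1] at hj
      rw [Bool.eq_iff_iff, ← q_fix hA (by omega) (by omega), ← q_fix hA (by omega) (by omega), hmv hj.1 (by omega)]
      exact (smul_left_cancel_iff c).symm
    have h1 := List.all_eq_true.1 (List.all_eq_true.1 ckP1 _ hf) _ hf'
    rw [decide_eq_true hp, Bool.not_true, Bool.false_or] at h1
    exact (Fin.ext (Nat.eq_of_beq_eq_true h1)).symm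
  -- base points
  have hbp : ∀ b : Fin LYT.P.m, (b : ℕ) ∈ [0, 1, 3, 4] → c • ((ev qa hb)⁻¹ • b) = (ev qa hb)⁻¹ • b := by
    intro b hb'
    rw [← ckB'] at hb'
    obtain ⟨p, hp, hpb⟩ := List.mem_map.1 hb'
    have h1 := List.all_eq_true.1 ckB p hp
    simp only [Bool.and_eq_true, decide_eq_true_eq] at h1
    obtain ⟨⟨⟨⟨h2, h3⟩, h4⟩, h5⟩, h6⟩ := h1
    have h3' : p.2.1 ∈ L6 := by simpa using h3
    have h7 : (ev qa hb)⁻¹ • b = (ev qa (WW p.2.2))⁻¹ • (⟨p.2.1, L6lt h3'⟩ : Fin LYT.P.m) := by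
      apply Fin.ext
      rw [act_word hA (by decide), act_word hA h4, ← hpb]
      exact Nat.eq_of_beq_eq_true h2
    rw [h7]
    have h8 : c * (ev qa (WW p.2.2))⁻¹ = (ev qa (WW p.2.2))⁻¹ * c := by
      have h9 : Commute c (ev qa (WW p.2.2)) := by
        rw [ev_WW]
        apply Commute.list_prod_right
        intro x hx
        obtain ⟨k, hk, rfl⟩ := List.mem_map.1 hx
        have h10 := List.all_eq_true.1 h5 k hk
        simp only [Bool.and_eq_true, decide_eq_true_eq] at h10
        exact hcom k h10.1 h10.2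
      exact h9.inv_right
    rw [← mul_smul, h8, mul_smul, hfix _ h3']
  have hone : ev qa hb * c * (ev qa hb)⁻¹ = 1 := by
    have key : ∀ b : Fin LYT.P.m, (b : ℕ) ∈ [0, 1, 3, 4] → (ev qa hb * c * (ev qa hb)⁻¹) • b = b := by
      intro b hb'
      rw [mul_smul, mul_smul, hbp b hb', smul_inv_smul]
    apply base_triv A hA
    · exact key o0 (by simp [o0])
    · intro d hd
      exact key d (by simp at hd ⊢; omega)
  have : c = (ev qa hb)⁻¹ * (ev qa hb * c * (ev qa hb)⁻¹) * ev qa hb := by group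
  rw [this, hone]
  group

end

theorem ckK : (List.range' 1 8).all (fun x => (List.range' 2 5).all fun j =>
    eqB (iH [x] ++ gw j ++ [x]) (WW (kT x j)) && (kT x j).all fun k => decide (2 ≤ k) && decide (k ≤ 6)) = true := by
  decide +kernel

theorem letter_norm {x : ℕ} (h1 : 1 ≤ x) (h2 : x ≤ 8) {s : QA} (hs : s ∈ SS q 2 6) :
    (qa x)⁻¹ * s * qa x ∈ SS q 2 6 := by
  have h3 : SS q 2 6 ≤ (SS q 2 6).comap (MulAut.conj (qa x)⁻¹).toMonoidHom := by
    conv_lhs => unfold SS
    rw [Subgroup.closure_le]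
    rintro _ ⟨j, h3, h4, rfl⟩
    show MulAut.conj (qa x)⁻¹ (q j) ∈ SS q 2 6
    rw [MulAut.conj_apply, inv_inv]
    have h := all_of (all_of ckK h1 (show x < 1 + 8 by omega)) h3 (show j < 2 + 5 by omega)
    rw [Bool.and_eq_true] at h
    have h5 := eqQ h.1
    rw [ev_app, ev_app, ev_iH, ev_WW] at h5
    have h6 : ev qa [x] = qa x := by simp [ev]
    rw [h6] at h5
    have h7 : (qa x)⁻¹ * q j * qa x = ((kT x j).map q).prod := h5
    rw [h7]
    apply mem_SS_prod
    intro k hk
    simpa using List.all_eq_true.1 h.2 k hk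
  have h4 := h3 hs
  change MulAut.conj (qa x)⁻¹ s ∈ SS q 2 6 at h4
  rwa [MulAut.conj_apply, inv_inv] at h4

theorem K8_norm {c : QA} (hc : c ∈ Cl qa 8) : ∀ s ∈ SS q 2 6, c⁻¹ * s * c ∈ SS q 2 6 ∧ c * s * c⁻¹ ∈ SS q 2 6 := by
  unfold Cl at hc
  induction hc using Subgroup.closure_induction with
  | mem y hy =>
    obtain ⟨x, hx, rfl⟩ := hy
    obtain ⟨h1, h2⟩ := isLet_iff.1 (show isLet 8 x = true from hx)
    intro s hs
    refine ⟨letter_norm h1 h2 hs, ?_⟩
    have h3 : qa (ivL ivH x) = (qa x)⁻¹ := UA.good.inv x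
    have h4 : 1 ≤ ivL ivH x ∧ ivL ivH x ≤ 8 := by
      interval_cases x <;> decide
    have h5 := letter_norm h4.1 h4.2 hs
    rwa [h3, inv_inv] at h5
  | one => intro s hs; simpa using hs
  | mul a b _ _ ha hb =>
    intro s hs
    constructor
    · have : (a * b)⁻¹ * s * (a * b) = b⁻¹ * (a⁻¹ * s * a) * b := by group
      rw [this]
      exact (hb _ (ha s hs).1).1
    · have : (a * b) * s * (a * b)⁻¹ = a * (b * s * b⁻¹) * a⁻¹ := by group
      rw [this]
      exact (ha _ (hb s hs).2).2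
  | inv a _ ha =>
    intro s hs
    rw [inv_inv]
    exact ⟨(ha s hs).2, (ha s hs).1⟩

theorem ckX : (eqB (iH (gw 1) ++ gw 6 ++ gw 1) (WW [2, 3, 3, 4, 5, 5, 5, 6])) = true := by decide +kernel

/-- `(X y₆) ^ k ≠ X y₆ ^ k` -/
theorem ckX2 : [0, 2, 3, 4].all (fun k => wOK 13 ((List.replicate k (WW [2, 3, 3, 4, 5, 5, 5, 6])).flatten ++
    iH (WW ([2, 3, 3, 4, 5, 5, 5] ++ List.replicate k 6))) &&
      !Nat.beq (actW LYT.P ((List.replicate k (WW [2, 3, 3, 4, 5, 5, 5, 6])).flatten ++
        iH (WW ([2, 3, 3, 4, 5, 5, 5] ++ List.replicate k 6))) 3) 3) = true := by decide +kernel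

theorem ev_flat (k : ℕ) (u : List ℕ) : ev qa ((List.replicate k u).flatten) = ev qa u ^ k := by
  induction k with
  | zero => simp [ev]
  | succ k ih => rw [List.replicate_succ, List.flatten_cons, ev_app, ih, pow_succ']

/-- `C(D₂) = 1` in `G₂(5)` -/
theorem cenQ2 : Cen q (q 7) (q 8) 1 5 := by
  intro c hy h7 h8
  obtain ⟨A, hA, _⟩ := TH.exists_action UA
  have hcom : ∀ k, 1 ≤ k → k ≤ 8 → k ≠ 6 → c * q k = q k * c := by
    intro k h1 h2 h6
    rcases Nat.lt_or_ge k 6 with h3 | h3
    · exact hy k h1 (by omega)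
    · rcases Nat.lt_or_ge k 8 with h4 | h4
      · have : k = 7 := by omega
        subst this; exact h7
      · have : k = 8 := by omega
        subst this; exact h8
  have hmv : ∀ {k : ℕ}, 1 ≤ k → k ≤ 8 → k ≠ 6 → ∀ i : Fin LYT.P.m, q k • (c • i) = c • (q k • i) := by
    intro k h1 h2 h3 i
    rw [← mul_smul, ← mul_smul, hcom k h1 h2 h3]
  have h0 : (o0 : ℕ) ∈ L6 := by decide
  have hfix : c • o0 = o0 := by
    have e7 : q 7 • o0 = o0 := by
      rw [q_fix hA (by norm_num) (by norm_num)]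
      have h1 : L6.all (fun f => Nat.beq (actW LYT.P (gw 7) f) f) = true := by decide +kernel
      exact List.all_eq_true.1 h1 _ h0
    have e8 : q 8 • o0 = o0 := by
      rw [q_fix hA (by norm_num) (by norm_num)]
      have h1 : L6.all (fun f => Nat.beq (actW LYT.P (gw 8) f) f) = true := by decide +kernel
      exact List.all_eq_true.1 h1 _ h0
    have hf' : ((c • o0 : Fin LYT.P.m) : ℕ) ∈ L6 := by
      apply fixT hA
      · rw [hmv (by norm_num) (by norm_num) (by norm_num), e7]
      · rw [hmv (by norm_num) (by norm_num) (by norm_num), e8]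
    have hp : pat 1 5 ((c • o0 : Fin LYT.P.m) : ℕ) = pat 1 5 0 := by
      show pat 1 5 ((c • o0 : Fin LYT.P.m) : ℕ) = pat 1 5 ((o0 : Fin LYT.P.m) : ℕ)
      unfold pat
      apply List.map_congr_left
      intro j hj
      rw [List.mem_range'_1] at hj
      rw [Bool.eq_iff_iff, ← q_fix hA (by omega) (by omega), ← q_fix hA (by omega) (by omega),
        hmv hj.1 (by omega) (by omega)]
      exact (smul_left_cancel_iff c)
    have h1 := List.all_eq_true.1 ckP2 _ hf'
    rw [decide_eq_true hp, Bool.not_true, Bool.false_or] at h1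
    exact Fin.ext (Nat.eq_of_beq_eq_true h1)
  have hcK : c ∈ Cl qa 8 := by
    rw [← stab0 A hA]
    exact hfix
  have h6S : c * q 6 * c⁻¹ ∈ SS q 1 6 := SS_mono (by norm_num) le_rfl ((K8_norm hcK _ (mem_SS (by norm_num) le_rfl)).2)
  have hu : Commute c (q 7 ^ 2 * q 8 ^ 1) := by
    have c7 : Commute c (q 7) := h7
    have c8 : Commute c (q 8) := h8
    exact (c7.pow_right 2).mul_right (c8.pow_right 1)
  have h66 : Commute (q 6) (q 7 ^ 2 * q 8 ^ 1) := datQ.comm_of_one (by norm_num) le_rfl (by decide)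
  have hcc : Commute (c * q 6 * c⁻¹) (q 7 ^ 2 * q 8 ^ 1) := (hu.mul_left h66).mul_left hu.inv_left
  obtain ⟨e, he⟩ := datQ.C (r := 6) (p := 2) (q := 1) (by norm_num) le_rfl (by decide)
    (fun j h1 h2 h3 h4 => h3 ((tab_pq' (r := 6) (by norm_num) le_rfl h1 h2).1 h4)) h6S hcc
  obtain ⟨k, hk, hk'⟩ := exp_lt (datQ.p5 6 (by norm_num) le_rfl) e
  rw [hk'] at he
  set X : QA := ([2, 3, 3, 4, 5, 5, 5].map q).prod with hX
  have hXc : Commute c X := by
    apply Commute.list_prod_right
    intro x hx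
    obtain ⟨j, hj, rfl⟩ := List.mem_map.1 hx
    have : 1 ≤ j ∧ j ≤ 5 := by
      simp at hj
      omega
    exact hy j this.1 this.2
  have hrel : (q 1)⁻¹ * q 6 * q 1 = X * q 6 := by
    have h := eqQ ckX
    rw [ev_WW, ev_app, ev_app, ev_iH] at h
    have h2 : ([2, 3, 3, 4, 5, 5, 5, 6].map q).prod = X * q 6 := by
      rw [hX]
      simp [mul_assoc]
    rw [h2] at h
    exact h
  have h1c : Commute c (q 1) := hy 1 le_rfl (by norm_num)
  have hk1 : (X * q 6) ^ k = X * q 6 ^ k := by
    rw [← hrel, ← conj_pow', ← he]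
    have h9 : (q 1)⁻¹ * (c * q 6 * c⁻¹) * q 1 = c * ((q 1)⁻¹ * q 6 * q 1) * c⁻¹ := by
      have a1 : (q 1)⁻¹ * c = c * (q 1)⁻¹ := (h1c.inv_right).symm
      have a2 : c⁻¹ * q 1 = q 1 * c⁻¹ := h1c.inv_left
      calc (q 1)⁻¹ * (c * q 6 * c⁻¹) * q 1 = ((q 1)⁻¹ * c) * q 6 * (c⁻¹ * q 1) := by group
        _ = (c * (q 1)⁻¹) * q 6 * (q 1 * c⁻¹) := by rw [a1, a2]
        _ = c * ((q 1)⁻¹ * q 6 * q 1) * c⁻¹ := by group
    rw [h9, hrel]
    have a3 : c * X = X * c := hXc
    calc c * (X * q 6) * c⁻¹ = (c * X) * q 6 * c⁻¹ := by group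
      _ = (X * c) * q 6 * c⁻¹ := by rw [a3]
      _ = X * (c * q 6 * c⁻¹) := by group
  have hk1' : k = 1 := by
    by_contra hne
    have hmem : k ∈ [0, 2, 3, 4] := by
      simp
      omega
    have h10 := ne_of (i := 3) (by norm_num) (List.all_eq_true.1 ckX2 k hmem)
    apply h10
    rw [ev_app, ev_iH, ev_flat, ev_WW, ev_WW, List.map_append, List.prod_append, prod_rep, ← hX]
    have h2 : ([2, 3, 3, 4, 5, 5, 5, 6].map q).prod = X * q 6 := by
      rw [hX]
      simp [mul_assoc]
    rw [h2, hk1, mul_inv_cancel]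
  rw [hk1', pow_one] at he
  have h6c : c * q 6 = q 6 * c := by
    rw [mul_inv_eq_iff_eq_mul] at he
    exact he
  refine cenQ1 hA c ?_ h7 h8
  intro j h1 h2
  rcases Nat.lt_or_ge j 6 with h3 | h3
  · exact hy j (by omega) (by omega)
  · have : j = 6 := by omega
    subst this
    exact h6c

end Cfsg.Agent.LyOut
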