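import Cfsg.Agent.LyOut.Fix
import Cfsg.Agent.CosetEnum.Ly.Ord
import Cfsg.Prelude.Def_KGroupFacts

/-! Every automorphism of the Lyons group is inner (owner: helper58). -/

set_option autoImplicit false
set_option maxRecDepth 1000000

namespace Cfsg.Agent.LyOut

open MulAction Cfsg.Agent.CosetEnum Cfsg.Agent.LyG

/-- the elements of the Lyons group -/
noncomputable def Y (j : ℕ) : Spor.Ly := tL (q j)

theorem datL : Dat Y (tL (q 7)) (tL (q 8)) := datQ.map tL_inj

/-- the stabiliser of the coset of `W` -/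
noncomputable def St (W : List ℕ) : Subgroup QA := (stabilizer Spor.Ly (pt gL (ev gL W))).comap tL

theorem mem_St {W : List ℕ} {a : QA} : a ∈ St W ↔ ev gL W * tL a * (ev gL W)⁻¹ ∈ HG := by
  show tL a • pt gL (ev gL W) = pt gL (ev gL W) ↔ _
  rw [smul_pt gL_good, pt_eq, map_inv, ← inv_mem_iff (x := ev gL W * (tL a)⁻¹ * (ev gL W)⁻¹)]
  simp only [mul_inv_rev, inv_inv, mul_assoc]

theorem stab_eq (A : MulAction QA (Spor.Ly ⧸ Cl gL 13)) (hA : ∀ (a : QA) (x : Spor.Ly ⧸ Cl gL 13), a • x = tL a • x)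
    (W : List ℕ) : stabilizer QA (pt gL (ev gL W)) = St W := by
  ext a
  show a • pt gL (ev gL W) = pt gL (ev gL W) ↔ tL a • pt gL (ev gL W) = pt gL (ev gL W)
  rw [hA]

theorem sgs : ∀ p ∈ Ws.zip [1, 19530, 968750, 5812500, 2034375], 5859000000 ≤ p.2 * Nat.card (St p.1) := by
  letI A : MulAction QA (Spor.Ly ⧸ Cl gL 13) := MulAction.compHom _ tL
  have hA : ∀ (a : QA) (x : Spor.Ly ⧸ Cl gL 13), a • x = tL a • x := fun _ _ => rfl
  intro p hp
  rw [← stab_eq A hA]
  simp only [Ws, List.zip_cons_cons, List.zip_nil_left, List.mem_cons, List.not_mem_nil, or_false] at hp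
  rcases hp with rfl | rfl | rfl | rfl | rfl
  · exact sg0 gL_good A hA
  · exact sg1 gL_good A hA
  · exact sg2 gL_good A hA
  · exact sg3 gL_good A hA
  · exact sg4 gL_good A hA

theorem no_small {cs : List ℕ} (h1 : Ws.length = cs.length) (h2 : ∀ p ∈ Ws.zip cs, 5859000000 ≤ p.2 * Nat.card (St p.1))
    (h3 : cs.sum < 8835156) : False := by
  have h4 := (index_le gL_good h1 (by decide) (gdA gL_good) (fun A hA p hp => by
    rw [stab_eq A hA]
    exact h2 p hp) gL_top).2
  have h5 : (Cl gL 13).index = 8835156 := index_eq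
  omega

theorem card_of {s c : ℕ} (hc : 0 < c) (h1 : 5859000000 ≤ c * s) (h2 : ¬ 5859000000 ≤ (c - 1) * s) (h3 : s ∣ 5859000000) :
    c * s = 5859000000 := by
  obtain ⟨o, ho⟩ := h3
  have hs : 0 < s := by
    rcases Nat.eq_zero_or_pos s with h | h
    · rw [h, zero_mul] at ho
      omega
    · exact h
  rw [ho] at h1 h2 ⊢
  have h4 : o ≤ c := Nat.le_of_mul_le_mul_left (by rwa [mul_comm c s] at h1) hs
  have h5 : ¬ o ≤ c - 1 := by
    intro h6
    apply h2
    rw [mul_comm (c - 1) s]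
    exact Nat.mul_le_mul_left s h6
  have h6 : o = c := by omega
  rw [h6, mul_comm]

theorem St_dvd (W : List ℕ) : Nat.card (St W) ∣ 5859000000 := by
  rw [← card_QA]
  exact Subgroup.card_subgroup_dvd_card _

theorem card_St1 : Nat.card (St W1) = 300000 := by
  have h := card_of (s := Nat.card (St W1)) (c := 19530) (by norm_num) (sgs (W1, 19530) (by simp [Ws])) (fun h => ?_)
    (St_dvd _)
  · omega
  · refine no_small (cs := [1, 19529, 968750, 5812500, 2034375]) rfl ?_ (by decide)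
    intro p hp
    have hs := sgs
    simp only [Ws, List.zip_cons_cons, List.zip_nil_left, List.mem_cons, List.not_mem_nil, or_false, forall_eq_or_imp,
      forall_eq] at hp hs
    obtain ⟨h0, h1, h2, h3, h4⟩ := hs
    rcases hp with rfl | rfl | rfl | rfl | rfl
    · exact h0
    · exact h
    · exact h2
    · exact h3
    · exact h4

theorem card_St2 : Nat.card (St W2) = 6048 := by
  have h := card_of (s := Nat.card (St W2)) (c := 968750) (by norm_num) (sgs (W2, 968750) (by simp [Ws])) (fun h => ?_)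
    (St_dvd _)
  · omega
  · refine no_small (cs := [1, 19530, 968749, 5812500, 2034375]) rfl ?_ (by decide)
    intro p hp
    have hs := sgs
    simp only [Ws, List.zip_cons_cons, List.zip_nil_left, List.mem_cons, List.not_mem_nil, or_false, forall_eq_or_imp,
      forall_eq] at hp hs
    obtain ⟨h0, h1, h2, h3, h4⟩ := hs
    rcases hp with rfl | rfl | rfl | rfl | rfl
    · exact h0
    · exact h1
    · exact h
    · exact h3
    · exact h4

theorem card_St3 : Nat.card (St W3) = 1008 := by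
  have h := card_of (s := Nat.card (St W3)) (c := 5812500) (by norm_num) (sgs (W3, 5812500) (by simp [Ws])) (fun h => ?_)
    (St_dvd _)
  · omega
  · refine no_small (cs := [1, 19530, 968750, 5812499, 2034375]) rfl ?_ (by decide)
    intro p hp
    have hs := sgs
    simp only [Ws, List.zip_cons_cons, List.zip_nil_left, List.mem_cons, List.not_mem_nil, or_false, forall_eq_or_imp,
      forall_eq] at hp hs
    obtain ⟨h0, h1, h2, h3, h4⟩ := hs
    rcases hp with rfl | rfl | rfl | rfl | rfl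
    · exact h0
    · exact h1
    · exact h2
    · exact h
    · exact h4

theorem card_St4 : Nat.card (St W4) = 2880 := by
  have h := card_of (s := Nat.card (St W4)) (c := 2034375) (by norm_num) (sgs (W4, 2034375) (by simp [Ws])) (fun h => ?_)
    (St_dvd _)
  · omega
  · refine no_small (cs := [1, 19530, 968750, 5812500, 2034374]) rfl ?_ (by decide)
    intro p hp
    have hs := sgs
    simp only [Ws, List.zip_cons_cons, List.zip_nil_left, List.mem_cons, List.not_mem_nil, or_false, forall_eq_or_imp,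
      forall_eq] at hp hs
    obtain ⟨h0, h1, h2, h3, h4⟩ := hs
    rcases hp with rfl | rfl | rfl | rfl | rfl
    · exact h0
    · exact h1
    · exact h2
    · exact h3
    · exact h

theorem ev14 : ev gL [14] = gL 14 := by simp [ev]

theorem evW1 : ev gL W1 = gL 14 := ev14

theorem z_conj {v : QA} (hv : v ∈ Cl qa 8) : (gL 14)⁻¹ * tL v * gL 14 ∈ HG := by
  have h3 : Cl qa 8 ≤ (HG.comap (MulAut.conj (gL 14)⁻¹).toMonoidHom).comap tL := by
    conv_lhs => unfold Cl
    rw [Subgroup.closure_le]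
    rintro _ ⟨x, hx, rfl⟩
    obtain ⟨h1, h2⟩ := isLet_iff.1 (show isLet 8 x = true from hx)
    show MulAut.conj (gL 14)⁻¹ (tL (qa x)) ∈ HG
    rw [MulAut.conj_apply, inv_inv, th_qa gL_good (isLet_iff.2 ⟨h1, by omega⟩), mul_assoc, al_letter gL_good h1 h2,
      inv_mul_cancel_left]
    apply word_mem_Cl gL
    interval_cases x <;> decide
  have h4 := h3 hv
  change MulAut.conj (gL 14)⁻¹ (tL v) ∈ HG at h4
  rwa [MulAut.conj_apply, inv_inv] at h4

theorem z_sq : gL 14 * gL 14 = tL (ev qa [1, 1]) := by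
  rw [th_word gL_good (by decide)]
  have h := usq gL_good
  simpa [ev] using h

theorem zi_conj {v : QA} (hv : v ∈ Cl qa 8) : gL 14 * tL v * (gL 14)⁻¹ ∈ HG := by
  have h1 : gL 14 * tL v * (gL 14)⁻¹ = tL (ev qa [1, 1]) * ((gL 14)⁻¹ * tL v * gL 14) * (tL (ev qa [1, 1]))⁻¹ := by
    rw [← z_sq]; group
  rw [h1]
  have h2 : tL (ev qa [1, 1]) ∈ HG := th_mem gL_good _
  exact HG.mul_mem (HG.mul_mem h2 (z_conj hv)) (HG.inv_mem h2)

theorem St1_eq : St W1 = Cl qa 8 := by
  symm
  apply Subgroup.eq_of_le_of_card_ge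
  · intro v hv
    rw [mem_St, evW1]
    exact zi_conj hv
  · obtain ⟨A, hA, _⟩ := TH.exists_action UA
    rw [card_St1, ← stab0 A hA, (orders A hA).2.2]

/-- the points fixed by a subgroup of order divisible by 25 -/
theorem loc {c : Spor.Ly} {Z : Subgroup QA} (hZ : ∀ a ∈ Z, c * tL a = tL a * c) (h25 : 25 ∣ Nat.card Z) (hc : c ∉ HG) :
    ∃ a : QA, c * (gL 14 * tL a)⁻¹ ∈ HG ∧ ∀ x ∈ Z, a * x * a⁻¹ ∈ Cl qa 8 := by
  obtain ⟨W, hW, a, ha⟩ := cover (hg := gL_good) (by decide) (gdA gL_good) gL_top c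
  have hSt : ∀ x ∈ Z, a * x * a⁻¹ ∈ St W := by
    intro x hx
    rw [mem_St]
    have h1 : ev gL W * tL (a * x * a⁻¹) * (ev gL W)⁻¹ = (ev gL W * tL a) * tL x * (ev gL W * tL a)⁻¹ := by
      rw [map_mul, map_mul, map_inv]; group
    have h2 : (ev gL W * tL a) * tL x * (ev gL W * tL a)⁻¹ =
        (c * (ev gL W * tL a)⁻¹)⁻¹ * (c * tL x * c⁻¹) * (c * (ev gL W * tL a)⁻¹) := by group
    rw [h1, h2, hZ x hx, mul_inv_cancel_right]
    have h3 : tL x ∈ HG := th_mem gL_good _
    exact HG.mul_mem (HG.mul_mem (HG.inv_mem ha) h3) ha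
  have hd : Nat.card Z ∣ Nat.card (St W) := by
    have h1 : Z.map (MulAut.conj a).toMonoidHom ≤ St W := by
      rintro _ ⟨x, hx, rfl⟩
      exact hSt x hx
    have h2 : Nat.card (Z.map (MulAut.conj a).toMonoidHom) = Nat.card Z :=
      (Nat.card_congr (Z.equivMapOfInjective _ (MulAut.conj a).injective).toEquiv).symm
    rw [← h2]
    exact Subgroup.card_dvd_of_le h1
  have hd25 := h25.trans hd
  simp only [Ws, List.mem_cons, List.not_mem_nil, or_false] at hW
  rcases hW with rfl | rfl | rfl | rfl | rfl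
  · exfalso
    apply hc
    have h1 : c = c * (ev gL W0 * tL a)⁻¹ * tL a := by
      have : ev gL W0 = 1 := rfl
      rw [this]; group
    rw [h1]
    exact HG.mul_mem ha (th_mem gL_good _)
  · rw [evW1] at ha
    refine ⟨a, ha, fun x hx => ?_⟩
    rw [← St1_eq]
    exact hSt x hx
  · exfalso
    rw [card_St2] at hd25
    norm_num at hd25
  · exfalso
    rw [card_St3] at hd25
    norm_num at hd25
  · exfalso
    rw [card_St4] at hd25
    norm_num at hd25

/-- the elements of `G₂(5)` that commute with `c` -/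
noncomputable def ZZ (c : Spor.Ly) : Subgroup QA := (Subgroup.centralizer ({c} : Set Spor.Ly)).comap tL

theorem mem_ZZ {c : Spor.Ly} {a : QA} : a ∈ ZZ c ↔ c * tL a = tL a * c := by
  show tL a ∈ Subgroup.centralizer ({c} : Set Spor.Ly) ↔ _
  rw [Subgroup.mem_centralizer_singleton_iff]
  exact ⟨fun h => h.symm, fun h => h.symm⟩

theorem ZZ25 {c : Spor.Ly} (h : ∀ j, 4 ≤ j → j ≤ 5 → c * Y j = Y j * c) : 25 ∣ Nat.card (ZZ c) := by
  rw [← datQ.card_45]
  apply Subgroup.card_dvd_of_le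
  conv_lhs => unfold SS
  rw [Subgroup.closure_le]
  rintro _ ⟨j, h1, h2, rfl⟩
  exact mem_ZZ.2 (h j h1 h2)

theorem cen2 : Cen Y (tL (q 7)) (tL (q 8)) 1 5 := by
  intro c hy h7 h8
  by_cases hc : c ∈ HG
  · rw [← tL_range] at hc
    obtain ⟨c', rfl⟩ := hc
    have h1 : c' = 1 := by
      apply cenQ2
      · intro j h1 h2
        exact tL_inj (by rw [map_mul, map_mul]; exact hy j h1 h2)
      · exact tL_inj (by rw [map_mul, map_mul]; exact h7)
      · exact tL_inj (by rw [map_mul, map_mul]; exact h8)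
    rw [h1, map_one]
  · exfalso
    obtain ⟨A, hA, _⟩ := TH.exists_action UA
    obtain ⟨a, _, h2⟩ := loc (Z := ZZ c) (fun x hx => mem_ZZ.1 hx) (ZZ25 fun j h1 h2 => hy j (by omega) h2) hc
    have hfix : ∀ x ∈ ZZ c, x • (a⁻¹ • o0) = a⁻¹ • o0 := by
      intro x hx
      have h3 := h2 x hx
      rw [← stab0 A hA] at h3
      have h4 : (a * x * a⁻¹) • o0 = o0 := h3
      rw [mul_smul, mul_smul, ← eq_inv_smul_iff] at h4
      exact h4
    have hL := fixT hA (hfix _ (mem_ZZ.2 h7)) (hfix _ (mem_ZZ.2 h8))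
    have h5 := List.all_eq_true.1 ckP4 _ hL
    rw [Bool.not_eq_true', ← Bool.not_eq_true] at h5
    apply h5
    rw [List.all_eq_true]
    intro j hj
    rw [List.mem_range'_1] at hj
    exact (q_fix hA hj.1 (by omega) _).1 (hfix _ (mem_ZZ.2 (hy j hj.1 (by omega))))

theorem t2p_eq : gL 14 * tL (q 8) * (gL 14)⁻¹ = tL (ev qa t2p) := by
  have h1 : gL 14 * tL (q 8) * (gL 14)⁻¹ = ev gL [1, 1] * ((gL 14)⁻¹ * tL (q 8) * gL 14) * (ev gL [1, 1])⁻¹ := by
    have h2 := usq gL_good
    have h3 : ev gL [14, 14] = gL 14 * gL 14 := by simp [ev]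
    rw [← h2, h3]; group
  have h4 : tL (q 8) * gL 14 = gL 14 * ev gL (al (gw 8)) := by
    rw [show tL (q 8) = ev gL (gw 8) from th_word gL_good (by decide)]
    exact al_word gL_good (by decide)
  rw [h1, mul_assoc (gL 14)⁻¹, h4, inv_mul_cancel_left, ← ev_iw gL_good, ← ev_app, ← ev_app, th_word gL_good (by decide)]
  rfl

theorem cen1 : Cen Y (tL (q 7)) (tL (q 8)) 2 6 := by
  obtain ⟨A, hA, _⟩ := TH.exists_action UA
  intro c hy h7 h8
  by_cases hc : c ∈ HG
  · rw [← tL_range] at hc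
    obtain ⟨c', rfl⟩ := hc
    have h1 : c' = 1 := by
      apply cenQ1 hA
      · intro j h1 h2
        exact tL_inj (by rw [map_mul, map_mul]; exact hy j h1 h2)
      · exact tL_inj (by rw [map_mul, map_mul]; exact h7)
      · exact tL_inj (by rw [map_mul, map_mul]; exact h8)
    rw [h1, map_one]
  · exfalso
    obtain ⟨a, h1, h2⟩ := loc (Z := ZZ c) (fun x hx => mem_ZZ.1 hx) (ZZ25 fun j h1 h2 => hy j (by omega) (by omega)) hc
    have hfix : ∀ x ∈ ZZ c, x • (a⁻¹ • o0) = a⁻¹ • o0 := by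
      intro x hx
      have h3 := h2 x hx
      rw [← stab0 A hA] at h3
      have h4 : (a * x * a⁻¹) • o0 = o0 := h3
      rw [mul_smul, mul_smul, ← eq_inv_smul_iff] at h4
      exact h4
    have hL := fixT hA (hfix _ (mem_ZZ.2 h7)) (hfix _ (mem_ZZ.2 h8))
    have h5 := List.all_eq_true.1 ckP3 _ hL
    have h6 : ((List.range' 2 5).all fun j => Nat.beq (actW LYT.P (gw j) ((a⁻¹ • o0 : Fin LYT.P.m) : ℕ))
        ((a⁻¹ • o0 : Fin LYT.P.m) : ℕ)) = true := by
      rw [List.all_eq_true]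
      intro j hj
      rw [List.mem_range'_1] at hj
      exact (q_fix hA (by omega) (by omega) _).1 (hfix _ (mem_ZZ.2 (hy j hj.1 (by omega))))
    rw [h6, Bool.not_true, Bool.false_or] at h5
    have h7' : a⁻¹ • o0 = o0 := Fin.ext (Nat.eq_of_beq_eq_true h5)
    have ha : a ∈ Cl qa 8 := by
      rw [← stab0 A hA]
      rw [inv_smul_eq_iff] at h7'
      exact h7'.symm
    have hcz : c * (gL 14)⁻¹ ∈ HG := by
      have e1 : c * (gL 14)⁻¹ = c * (gL 14 * tL a)⁻¹ * (gL 14 * tL a * (gL 14)⁻¹) := by group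
      rw [e1]
      exact HG.mul_mem h1 (zi_conj ha)
    rw [← tL_range] at hcz
    obtain ⟨m, hm⟩ := hcz
    have hcm : c = tL m * gL 14 := by rw [hm]; group
    have hrel : m * ev qa t2p = q 8 * m := by
      apply tL_inj
      rw [map_mul, map_mul, ← t2p_eq]
      have e2 : tL m * (gL 14 * tL (q 8) * (gL 14)⁻¹) = c * tL (q 8) * (gL 14)⁻¹ := by rw [hcm]; group
      rw [e2, h8, hcm]; group
    -- count the fixed points
    have hmap : ∀ i : Fin LYT.P.m, (i : ℕ) ∈ L22 → ((m⁻¹ • i : Fin LYT.P.m) : ℕ) ∈ L18 := by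
      intro i hi
      have e1 := List.all_eq_true.1 ck22 _ hi
      rw [Bool.and_eq_true] at e1
      have e2 : q 8 • i = i := (q_fix hA (by norm_num) (by norm_num) i).2 e1.1
      have e3 : ev qa t2p • (m⁻¹ • i) = m⁻¹ • i := by
        rw [← mul_smul, show ev qa t2p * m⁻¹ = m⁻¹ * q 8 by
          rw [eq_inv_mul_iff_mul_eq, ← mul_assoc, hrel, mul_inv_cancel_right], mul_smul, e2]
      have e4 := act_word hA (u := t2p) (by decide) (m⁻¹ • i)
      have e5 : (ev qa t2p)⁻¹ • (m⁻¹ • i) = m⁻¹ • i := by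
        rw [inv_smul_eq_iff]
        exact e3.symm
      rw [e5] at e4
      have e6 := covP ((m⁻¹ • i : Fin LYT.P.m) : ℕ) (Nat.zero_le _) (m⁻¹ • i).2
      unfold fP at e6
      rw [show Nat.beq (actW LYT.P t2p ((m⁻¹ • i : Fin LYT.P.m) : ℕ)) ((m⁻¹ • i : Fin LYT.P.m) : ℕ) = true by
        rw [← e4]; simp] at e6
      simpa using e6
    have hlt : ∀ i ∈ L22, i < 19530 := by
      intro i hi
      have e1 := List.all_eq_true.1 ck22 _ hi
      rw [Bool.and_eq_true] at e1
      simpa using e1.2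
    let F : ℕ → ℕ := fun i => if h : i < LYT.P.m then ((m⁻¹ • (⟨i, h⟩ : Fin LYT.P.m) : Fin LYT.P.m) : ℕ) else 0
    have hF : ∀ (i : ℕ) (h : i < LYT.P.m), F i = ((m⁻¹ • (⟨i, h⟩ : Fin LYT.P.m) : Fin LYT.P.m) : ℕ) := fun i h => dif_pos h
    have hcard := Finset.card_le_card_of_injOn (s := L22.toFinset) (t := L18.toFinset) F (by
      intro i hi
      have hi' : i ∈ L22 := by simpa using hi
      have this : F i ∈ L18 := by
        rw [hF i (hlt i hi')]
        exact hmap ⟨i, hlt i hi'⟩ hi'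
      simpa using this) (by
      intro i hi j hj hij
      have hi' : i ∈ L22 := by simpa using hi
      have hj' : j ∈ L22 := by simpa using hj
      rw [hF i (hlt i hi'), hF j (hlt j hj')] at hij
      have e1 := MulAction.injective m⁻¹ (Fin.ext hij)
      exact congrArg Fin.val e1)
    have c1 : L22.toFinset.card = 22 := by decide +kernel
    have c2 : L18.toFinset.card = 18 := by decide +kernel
    rw [c1, c2] at hcard
    omega

/-! ### the generators -/

theorem ckW1 : (List.range' 2 5).all (fun j => eqB (iH (gw 9) ++ gw j ++ gw 9) (WW (wT 9 j)) &&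
    (wT 9 j).all fun k => decide (1 ≤ k) && decide (k ≤ 6)) = true := by decide +kernel

theorem ckW2 : (List.range' 1 5).all (fun j => eqB (iH (gw 10) ++ gw j ++ gw 10) (WW (wT 10 j)) &&
    (wT 10 j).all fun k => decide (1 ≤ k) && decide (k ≤ 6)) = true := by decide +kernel

theorem ckW3 : [(9, 7), (9, 8), (10, 7), (10, 8)].all (fun p : ℕ × ℕ =>
    eqB (iH (gw p.1) ++ gw p.2 ++ gw p.1) (WW (wT p.1 p.2)) && (wT p.1 p.2).all fun k => decide (k = 7) || decide (k = 8)) = true := by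
  decide +kernel

theorem ckL : [1, 7, 9, 11].all (fun x => eqB [x] (WW (ltT x)) && (ltT x).all fun k => decide (1 ≤ k) && decide (k ≤ 10)) = true := by
  decide +kernel

theorem ck0 : (List.range' 2 7).all (fun j => Nat.beq (actW LYT.P (gw j) 0) 0) = true := by decide +kernel

theorem YS {x : QA} (h : x ∈ SS q 1 6) : tL x ∈ SS Y 1 6 := by
  have h1 : tL x ∈ (SS q 1 6).map tL := ⟨x, h, rfl⟩
  rw [SS_map] at h1
  exact h1

theorem YT {x : QA} (h : x ∈ TT (q 7) (q 8)) : tL x ∈ TT (tL (q 7)) (tL (q 8)) := by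
  have h1 : tL x ∈ (TT (q 7) (q 8)).map tL := ⟨x, h, rfl⟩
  rw [TT_map] at h1
  exact h1

theorem conjS {w j : ℕ} {L : List ℕ} (h : (eqB (iH (gw w) ++ gw j ++ gw w) (WW L) &&
    L.all fun k => decide (1 ≤ k) && decide (k ≤ 6)) = true) : (tL (q w))⁻¹ * Y j * tL (q w) ∈ SS Y 1 6 := by
  rw [Bool.and_eq_true] at h
  have h5 := eqQ h.1
  rw [ev_app, ev_app, ev_iH, ev_WW] at h5
  have h6 : (tL (q w))⁻¹ * Y j * tL (q w) = tL ((q w)⁻¹ * q j * q w) := by rw [map_mul, map_mul, map_inv]; rfl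
  rw [h6]
  apply YS
  have h7 : (q w)⁻¹ * q j * q w = (L.map q).prod := h5
  rw [h7]
  apply mem_SS_prod
  intro k hk
  simpa using List.all_eq_true.1 h.2 k hk

theorem conjT {w j : ℕ} {L : List ℕ} (h : (eqB (iH (gw w) ++ gw j ++ gw w) (WW L) &&
    L.all fun k => decide (k = 7) || decide (k = 8)) = true) :
    (tL (q w))⁻¹ * tL (q j) * tL (q w) ∈ TT (tL (q 7)) (tL (q 8)) := by
  rw [Bool.and_eq_true] at h
  have h5 := eqQ h.1
  rw [ev_app, ev_app, ev_iH, ev_WW] at h5
  rw [← map_inv, ← map_mul, ← map_mul]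
  apply YT
  have h7 : (q w)⁻¹ * q j * q w = (L.map q).prod := h5
  rw [h7]
  apply list_prod_mem
  intro x hx
  obtain ⟨k, hk, rfl⟩ := List.mem_map.1 hx
  have h8 : k = 7 ∨ k = 8 := by simpa using List.all_eq_true.1 h.2 k hk
  rcases h8 with rfl | rfl
  · exact t1_mem
  · exact t2_mem

/-- the subgroup of the statements of `Dat.inner` -/
noncomputable abbrev MM : Subgroup Spor.Ly := SS Y 1 6 ⊔ TT (tL (q 7)) (tL (q 8)) ⊔ Subgroup.closure {tL (q 9), tL (q 10)}

theorem q_mem {k : ℕ} (h1 : 1 ≤ k) (h2 : k ≤ 10) : tL (q k) ∈ MM := by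
  have hS : SS Y 1 6 ≤ MM := le_sup_of_le_left le_sup_left
  have hT : TT (tL (q 7)) (tL (q 8)) ≤ MM := le_sup_of_le_left le_sup_right
  have hW : Subgroup.closure {tL (q 9), tL (q 10)} ≤ MM := le_sup_right
  rcases Nat.lt_or_ge k 7 with h3 | h3
  · exact hS (mem_SS (y := Y) h1 (by omega))
  · have h4 : k = 7 ∨ k = 8 ∨ k = 9 ∨ k = 10 := by omega
    rcases h4 with rfl | rfl | rfl | rfl
    · exact hT t1_mem
    · exact hT t2_mem
    · exact hW (Subgroup.subset_closure (Set.mem_insert _ _))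
    · exact hW (Subgroup.subset_closure (Set.mem_insert_of_mem _ (Set.mem_singleton _)))

theorem letter_mem {x : ℕ} (hx : x ∈ [1, 7, 9, 11]) : gL x ∈ MM := by
  have h := List.all_eq_true.1 ckL x hx
  rw [Bool.and_eq_true] at h
  have h5 := eqQ h.1
  rw [ev_WW] at h5
  have h6 : ev qa [x] = qa x := by simp [ev]
  have h7 : isLet 13 x = true := by
    simp only [List.mem_cons, List.not_mem_nil, or_false] at hx
    rcases hx with rfl | rfl | rfl | rfl <;> decide
  rw [← th_qa gL_good h7, ← h6, h5, map_list_prod]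
  apply list_prod_mem
  intro y hy
  obtain ⟨z, hz, rfl⟩ := List.mem_map.1 hy
  obtain ⟨k, hk, rfl⟩ := List.mem_map.1 hz
  have h8 := List.all_eq_true.1 h.2 k hk
  simp only [Bool.and_eq_true, decide_eq_true_eq] at h8
  exact q_mem h8.1 h8.2

theorem HG_le : HG ≤ MM := by
  rw [← sub_eq, MonoidHom.map_closure, Subgroup.closure_le]
  rintro _ ⟨x, hx, rfl⟩
  rcases hx with rfl | rfl | rfl | hx
  · exact letter_mem (x := 1) (by simp)
  · exact letter_mem (x := 9) (by simp)
  · exact letter_mem (x := 7) (by simp)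
  · rw [Set.mem_singleton_iff] at hx
    subst hx
    exact letter_mem (x := 11) (by simp)

theorem q_K8 {j : ℕ} (h1 : 2 ≤ j) (h2 : j ≤ 8) : q j ∈ Cl qa 8 := by
  obtain ⟨A, hA, _⟩ := TH.exists_action UA
  rw [← stab0 A hA]
  exact (q_fix hA (by omega) (by omega) o0).2 (all_of ck0 h1 (by omega))

theorem z_mem {j : ℕ} (h1 : 2 ≤ j) (h2 : j ≤ 8) : (gL 14)⁻¹ * tL (q j) * gL 14 ∈ MM := HG_le (z_conj (q_K8 h1 h2))

theorem top_eq : MM ⊔ Subgroup.zpowers (gL 14) = ⊤ := by
  rw [eq_top_iff, ← gL_top]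
  unfold Cl
  rw [Subgroup.closure_le]
  rintro _ ⟨x, hx, rfl⟩
  obtain ⟨h4, h5⟩ := isLet_iff.1 (show isLet 15 x = true from hx)
  have hz : gL 14 ∈ MM ⊔ Subgroup.zpowers (gL 14) :=
    (le_sup_right : Subgroup.zpowers (gL 14) ≤ MM ⊔ Subgroup.zpowers (gL 14)) (Subgroup.mem_zpowers _)
  rcases Nat.lt_or_ge x 14 with h6 | h6
  · exact (le_sup_left : MM ≤ MM ⊔ Subgroup.zpowers (gL 14)) (HG_le (mem_Cl gL (isLet_iff.2 ⟨h4, by omega⟩)))
  · rcases Nat.lt_or_ge x 15 with h7 | h7
    · have : x = 14 := by omega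
      subst this
      exact hz
    · have : x = 15 := by omega
      subst this
      have h8 : gL 15 = (gL 14)⁻¹ := gL_good.inv 14
      rw [h8]
      exact Subgroup.inv_mem _ hz

theorem fact5 : (Nat.card Spor.Ly).factorization 5 = 6 := by
  rw [card_Ly]
  have h1 : (51765179004000000 : ℕ) = 5 ^ 6 * 3312971456256 := by norm_num
  rw [h1, Nat.factorization_mul (by norm_num) (by norm_num), Finsupp.add_apply, Nat.Prime.factorization_pow (by norm_num),
    Finsupp.single_eq_same, Nat.factorization_eq_zero_of_not_dvd (by norm_num)]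

/-- **Every automorphism of the Lyons group is inner.** -/
theorem inner_Ly (α : MulAut Spor.Ly) : ∃ g : Spor.Ly, α = MulAut.conj g := by
  haveI := finite_Ly
  refine datL.inner fact5 cen1 cen2 (w1 := tL (q 9)) (w2 := tL (q 10)) (z := gL 14) ?_ ?_ ?_ ?_ ?_ ?_ ?_ ?_ ?_ top_eq α
  · intro j h1 h2
    exact conjS (all_of ckW1 h1 (by omega))
  · exact conjT (List.all_eq_true.1 ckW3 (9, 7) (by simp))
  · exact conjT (List.all_eq_true.1 ckW3 (9, 8) (by simp))
  · intro j h1 h2
    exact conjS (all_of ckW2 h1 (by omega))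
  · exact conjT (List.all_eq_true.1 ckW3 (10, 7) (by simp))
  · exact conjT (List.all_eq_true.1 ckW3 (10, 8) (by simp))
  · intro j h1 h2
    exact z_mem (j := j) h1 (by omega)
  · exact z_mem (j := 7) (by norm_num) (by norm_num)
  · exact z_mem (j := 8) (by norm_num) (by norm_num)

theorem out_Ly : Nat.card (Cfsg.Out Spor.Ly) = 1 := by
  have h : Cfsg.Inn Spor.Ly = ⊤ := by
    rw [eq_top_iff]
    intro α _
    obtain ⟨g, hg⟩ := inner_Ly α
    exact ⟨g, hg.symm⟩
  have h1 : Nat.card (MulAut Spor.Ly ⧸ Cfsg.Inn Spor.Ly) = (Cfsg.Inn Spor.Ly).index := rfl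
  rw [show Nat.card (Cfsg.Out Spor.Ly) = (Cfsg.Inn Spor.Ly).index from h1, h, Subgroup.index_top]

end Cfsg.Agent.LyOut
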